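import Groth.Agent.NFApproxLib.Punctured

/-! Strong approximation on the complement of a closed subset of codimension two. -/

set_option autoImplicit false
universe u

namespace Groth.Agent.NFApproxLib

open NumberField IsDedekindDomain WithZero

variable {k : Type u} [Field k] [NumberField k]

local notation "O" => NumberField.RingOfIntegers k

/-- The solutions of an approximation problem are infinite in number. -/
theorem infinite_solutions (v₀ : HeightOneSpectrum O) (S : Finset (HeightOneSpectrum O)) (hv₀ : v₀ ∉ S)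
    (a : HeightOneSpectrum O → k) (N : HeightOneSpectrum O → ℕ) (q : InfinitePlace k → k) {ε : ℝ} (hε : 0 < ε) :
    {t : k | (∀ v ∈ S, v.valuation k (t - a v) ≤ exp (-(N v : ℤ))) ∧ (∀ v, v ≠ v₀ → v ∉ S → v.valuation k t ≤ 1) ∧
      ∀ w : InfinitePlace k, w (t - q w) < ε}.Infinite := by
  classical
  obtain ⟨t, ht1, ht2, ht3⟩ := strong_approx v₀ S hv₀ a N q (half_pos hε)
  intro hfin
  let w₀ : InfinitePlace k := Classical.arbitrary _
  choose u hu hu0 using fun v : HeightOneSpectrum O => Submodule.exists_mem_ne_zero_of_ne_bot v.ne_bot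
  set m : k := algebraMap O k (∏ v ∈ S, u v ^ N v) with hm
  have hm0 : m ≠ 0 := (map_ne_zero_iff _ (IsFractionRing.injective O k)).mpr
    (Finset.prod_ne_zero_iff.mpr fun v _ => pow_ne_zero _ (hu0 v))
  let M := ∑ w : InfinitePlace k, w m
  have hM : ∀ w : InfinitePlace k, w m ≤ M := fun w =>
    Finset.single_le_sum (f := fun w : InfinitePlace k => w m) (fun w _ => apply_nonneg w _) (Finset.mem_univ w)
  have hM0 : 0 < M := lt_of_lt_of_le (InfinitePlace.pos_iff.mpr hm0) (hM w₀)
  obtain ⟨δ, hδ0, hδ1, hδ⟩ : ∃ δ, 0 < δ ∧ δ ≤ ε / 2 ∧ ∀ s ∈ hfin.toFinset, s ≠ t → δ ≤ w₀ (s - t) := by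
    let F := insert (ε / 2) (((hfin.toFinset).erase t).image fun s => w₀ (s - t))
    refine ⟨F.min' (Finset.insert_nonempty _ _), ?_, Finset.min'_le _ _ (Finset.mem_insert_self _ _),
      fun s hs hst => Finset.min'_le _ _ (Finset.mem_insert_of_mem (Finset.mem_image_of_mem _ (Finset.mem_erase.mpr ⟨hst, hs⟩)))⟩
    rw [Finset.lt_min'_iff]
    intro r hr
    rcases Finset.mem_insert.mp hr with rfl | hr
    · exact half_pos hε
    · obtain ⟨s, hs, rfl⟩ := Finset.mem_image.mp hr
      exact InfinitePlace.pos_iff.mpr (sub_ne_zero.mpr (Finset.mem_erase.mp hs).1)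
  obtain ⟨x, hx0, hxv, hxw⟩ := exists_small v₀ (div_pos hδ0 hM0)
  have hz : ∀ w : InfinitePlace k, w (m * x) < δ := fun w => by
    rw [map_mul]
    calc w m * w x ≤ M * w x := mul_le_mul_of_nonneg_right (hM w) (apply_nonneg w _)
      _ < M * (δ / M) := mul_lt_mul_of_pos_left (hxw w) hM0
      _ = δ := by field_simp
  have hmem : t + m * x ∈ hfin.toFinset := by
    rw [Set.Finite.mem_toFinset]
    refine ⟨fun v hv => ?_, fun v hv hvS => ?_, fun w => ?_⟩
    · rw [show t + m * x - a v = (t - a v) + m * x by ring]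
      refine (Valuation.map_add _ _ _).trans (max_le (ht1 v hv) ?_)
      rw [map_mul]
      exact mul_le_of_le_of_le_one (valuation_le_exp_of_mem v (Ideal.mem_of_dvd _ (Finset.dvd_prod_of_mem _ hv) (Ideal.pow_mem_pow (hu v) _)))
        (hxv v fun h => hv₀ (h ▸ hv))
    · refine (Valuation.map_add _ _ _).trans (max_le (ht2 v hv hvS) ?_)
      rw [map_mul]
      exact mul_le_one' (HeightOneSpectrum.valuation_le_one v _) (hxv v hv)
    · rw [show t + m * x - q w = (t - q w) + m * x by ring]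
      calc w ((t - q w) + m * x) ≤ w (t - q w) + w (m * x) := w.1.add_le _ _
        _ < ε / 2 + ε / 2 := add_lt_add (ht3 w) ((hz w).trans_le hδ1)
        _ = ε := add_halves ε
  have := hδ _ hmem (by simp [hm0, hx0])
  rw [add_sub_cancel_left] at this
  exact absurd (hz w₀) (not_lt.mpr this)

theorem punctured {n m : ℕ} (f : Fin m → MvPolynomial (Fin n) O)
    (hcodim : ringKrullDim (MvPolynomial (Fin n) k ⧸ Ideal.span (Set.range fun j =>
        MvPolynomial.map (algebraMap O k) (f j))) + 2 ≤ (n : WithBot ℕ∞))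
    (v₀ : HeightOneSpectrum O) (Sf : Finset (HeightOneSpectrum O)) (hv₀ : v₀ ∈ Sf)
    (Pf : (v : HeightOneSpectrum O) → (Fin n → v.adicCompletion k))
    (Nf : (v : HeightOneSpectrum O) → Set (Fin n → v.adicCompletion k))
    (hNf : ∀ v ∈ Sf, v ≠ v₀ → IsOpen (Nf v) ∧ Pf v ∈ Nf v)
    (Pi : (w : InfinitePlace k) → (Fin n → w.Completion))
    (Ni : (w : InfinitePlace k) → Set (Fin n → w.Completion))
    (hNi : ∀ w, IsOpen (Ni w) ∧ Pi w ∈ Ni w)
    (T : Finset (HeightOneSpectrum O)) (hT : Disjoint T Sf)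
    (Q : (v : HeightOneSpectrum O) → (Fin n → v.adicCompletion k))
    (hQ : ∀ v ∈ T, (∀ i, Q v i ∈ v.adicCompletionIntegers k) ∧ ∃ j, Valued.v (MvPolynomial.aeval (Q v)
      (MvPolynomial.map (algebraMap O k) (f j))) = 1)
    (W : (v : HeightOneSpectrum O) → Set (Fin n → v.adicCompletion k))
    (hW : ∀ v ∈ T, IsOpen (W v) ∧ Q v ∈ W v)
    (hne : ∀ v : HeightOneSpectrum O, v ∉ Sf → ∃ R : Fin n → v.adicCompletion k,
      (∀ i, R i ∈ v.adicCompletionIntegers k) ∧ ∃ j, Valued.v (MvPolynomial.aeval R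
        (MvPolynomial.map (algebraMap O k) (f j))) = 1) :
    ∃ P : Fin n → k, (∀ v, v ∉ Sf → UnitAt f v P) ∧
      (∀ v ∈ Sf, v ≠ v₀ → (fun i => algebraMap k (v.adicCompletion k) (P i)) ∈ Nf v) ∧
      (∀ w : InfinitePlace k, (fun i => algebraMap k w.Completion (P i)) ∈ Ni w) ∧
      (∀ v ∈ T, (fun i => algebraMap k (v.adicCompletion k) (P i)) ∈ W v) := by
  classical
  let F : Fin m → MvPolynomial (Fin n) k := fun j => MvPolynomial.map (algebraMap O k) (f j)
  have hF : ∀ j P, MvPolynomial.eval P (F j) = MvPolynomial.eval₂ (algebraMap O k) P (f j) := fun j P =>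
    MvPolynomial.eval_map _ _ _
  obtain ⟨j₀, hj₀⟩ : ∃ j, F j ≠ 0 := by
    by_contra h
    push Not at h
    rw [show Ideal.span (Set.range F) = ⊥ by rw [Ideal.span_eq_bot]; rintro _ ⟨j, rfl⟩; exact h j] at hcodim
    rw [ringKrullDim_eq_of_ringEquiv (RingEquiv.quotientBot (MvPolynomial (Fin n) k)),
      MvPolynomial.ringKrullDim_of_isNoetherianRing, ringKrullDim_eq_zero_of_field] at hcodim
    simp only [zero_add, Nat.card_eq_fintype_card, Fintype.card_fin] at hcodim
    have : n + 2 ≤ n := by exact_mod_cast hcodim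
    omega
  -- the local data
  let S := Sf.erase v₀ ∪ T
  have hv₀S : v₀ ∉ S := fun h => by
    rcases Finset.mem_union.mp h with h | h
    · exact (Finset.mem_erase.mp h).1 rfl
    · exact Finset.disjoint_left.mp hT h hv₀
  have hloc : ∀ v, ∃ (a : Fin n → k) (M : ℕ), ∀ b : Fin n → k, (∀ i, v.valuation k (b i - a i) ≤ exp (-(M : ℤ))) →
      (v ∈ Sf → v ≠ v₀ → (fun i => algebraMap k (v.adicCompletion k) (b i)) ∈ Nf v) ∧
      (v ∈ T → (fun i => algebraMap k (v.adicCompletion k) (b i)) ∈ W v ∧ UnitAt f v b) := by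
    intro v
    by_cases hvT : v ∈ T
    · obtain ⟨a, M, -, h⟩ := exists_ball v (W v) (hW v hvT).1 (Q v) (hW v hvT).2
      refine ⟨a, M, fun b hb => ⟨fun hv _ => absurd hv (Finset.disjoint_left.mp hT hvT), fun _ => ⟨(h b hb).1, ?_⟩⟩⟩
      exact unitAt_of_near f v _ (hQ v hvT).1 (hQ v hvT).2 b (h b hb).2
    · by_cases hv : v ∈ Sf ∧ v ≠ v₀
      · obtain ⟨a, M, -, h⟩ := exists_ball v (Nf v) (hNf v hv.1 hv.2).1 (Pf v) (hNf v hv.1 hv.2).2
        exact ⟨a, M, fun b hb => ⟨fun _ _ => (h b hb).1, fun h' => absurd h' hvT⟩⟩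
      · exact ⟨0, 0, fun b _ => ⟨fun h1 h2 => absurd ⟨h1, h2⟩ hv, fun h' => absurd h' hvT⟩⟩
  choose a M hloc using hloc
  choose aw ηw hηw hlocw using fun w => exists_ball_inf w (Ni w) (hNi w).1 (Pi w) (hNi w).2
  let η := Finset.univ.inf' Finset.univ_nonempty ηw
  have hη : 0 < η := (Finset.lt_inf'_iff _).mpr fun w _ => hηw w
  have hηle : ∀ w, η ≤ ηw w := fun w => Finset.inf'_le _ (Finset.mem_univ w)
  -- the first point
  obtain ⟨P, hPmem, hPne⟩ : ∃ P : Fin n → k, (∀ i, P i ∈ {t : k | (∀ v ∈ S, v.valuation k (t - a v i) ≤ exp (-((M v + 1 : ℕ) : ℤ))) ∧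
      (∀ v, v ≠ v₀ → v ∉ S → v.valuation k t ≤ 1) ∧ ∀ w : InfinitePlace k, w (t - aw w i) < η / 2}) ∧
      MvPolynomial.eval P (F j₀) ≠ 0 := by
    by_contra h
    push Not at h
    refine hj₀ (MvPolynomial.funext_set _ (fun i => infinite_solutions v₀ S hv₀S (fun v => a v i) (fun v => M v + 1)
      (fun w => aw w i) (half_pos hη)) fun x hx => ?_)
    rw [map_zero]
    exact h x fun i => hx i (Set.mem_univ i)
  have hPint : ∀ v, v ∉ Sf → v ∉ T → ∀ i, v.valuation k (P i) ≤ 1 := fun v hv hvT i =>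
    (hPmem i).2.1 v (fun h => hv (h ▸ hv₀)) (by simp [S, hv, hvT])
  have hB1 : {v : HeightOneSpectrum O | v ∉ Sf ∧ v.valuation k (MvPolynomial.eval P (F j₀)) ≠ 1}.Finite := finite_ne_one Sf hPne
  let B1 := hB1.toFinset.filter fun v => v ∉ T ∧ ∀ j, v.valuation k (MvPolynomial.eval P (F j)) ≠ 1
  have hB1mem : ∀ v, v ∈ B1 ↔ v ∉ Sf ∧ v ∉ T ∧ ∀ j, v.valuation k (MvPolynomial.eval P (F j)) ≠ 1 := fun v => by
    simp only [B1, Finset.mem_filter, Set.Finite.mem_toFinset, Set.mem_ofPred_eq]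
    exact ⟨fun h => ⟨h.1.1, h.2⟩, fun h => ⟨⟨h.1, h.2.2 j₀⟩, h.2⟩⟩
  have hv₀B1 : v₀ ∉ B1 := fun h => ((hB1mem _).mp h).1 hv₀
  have hgood1 : ∀ v, v ∉ Sf → v ∉ B1 → v ∉ T → UnitAt f v P := fun v hv hvB hvT => by
    refine ⟨hPint v hv hvT, ?_⟩
    by_contra hcon
    push Not at hcon
    exact hvB ((hB1mem v).mpr ⟨hv, hvT, fun j => by rw [hF]; exact hcon j⟩)
  have hlocB : ∀ v, ∃ (b : Fin n → k) (N : ℕ), v ∈ B1 → ∀ c : Fin n → k, (∀ i, v.valuation k (c i - b i) ≤ exp (-(N : ℤ))) →
      UnitAt f v c := by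
    intro v
    by_cases hv : v ∈ B1
    · obtain ⟨R, hR, hj⟩ := hne v ((hB1mem v).mp hv).1
      obtain ⟨b, N, -, h⟩ := exists_ball v Set.univ isOpen_univ R trivial
      exact ⟨b, N, fun _ c hc => unitAt_of_near f v R hR hj c (h c hc).2⟩
    · exact ⟨0, 0, fun h => absurd h hv⟩
  choose b N hlocB using hlocB
  -- the direction
  obtain ⟨Ψ, hΨ, hΨD⟩ := exists_direction_poly F hcodim P ⟨j₀, hPne⟩
  obtain ⟨D, hDmem, hD⟩ : ∃ D : Fin n → k, (∀ i, D i ∈ {t : k | (∀ v ∈ B1, v.valuation k (t - (b v i - P i)) ≤ exp (-((N v : ℕ) : ℤ))) ∧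
      (∀ v, v ≠ v₀ → v ∉ B1 → v.valuation k t ≤ 1) ∧ ∀ w : InfinitePlace k, w (t - 0) < 1}) ∧
      MvPolynomial.eval D Ψ ≠ 0 := by
    by_contra h
    push Not at h
    refine hΨ (MvPolynomial.funext_set _ (fun i => infinite_solutions v₀ B1 hv₀B1 (fun v => b v i - P i) N
      (fun _ => 0) one_pos) fun x hx => ?_)
    rw [map_zero]
    exact h x fun i => hx i (Set.mem_univ i)
  obtain ⟨h, hh⟩ := hΨD D hD
  have hB2 : (⋃ j : Fin m, ⋃ e ∈ (h j).support, {v : HeightOneSpectrum O | v ∉ Sf ∧ v.valuation k ((h j).coeff e) ≠ 1}).Finite :=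
    Set.finite_iUnion fun j => (h j).support.finite_toSet.biUnion fun e he => finite_ne_one Sf (Polynomial.mem_support_iff.mp he)
  -- the parameter
  let S' := S ∪ B1 ∪ hB2.toFinset
  have hv₀S' : v₀ ∉ S' := fun hm => by
    simp only [S', Finset.mem_union, Set.Finite.mem_toFinset, Set.mem_iUnion, Set.mem_ofPred_eq] at hm
    rcases hm with (hm | hm) | ⟨j, e, -, hm, -⟩
    exacts [hv₀S hm, hv₀B1 hm, hm hv₀]
  let E : HeightOneSpectrum O → ℕ := fun v => (Finset.univ.sup fun i => (log (v.valuation k (D i))).toNat)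
  have hE : ∀ v i, v.valuation k (D i) ≤ exp (E v : ℤ) := fun v i => by
    refine le_exp_of_log_le (le_trans (Int.self_le_toNat _) ?_)
    exact_mod_cast Finset.le_sup (f := fun i => (log (v.valuation k (D i))).toNat) (Finset.mem_univ i)
  let DD := 1 + ∑ w : InfinitePlace k, ∑ i, w (D i)
  have hDD : ∀ (w : InfinitePlace k) i, w (D i) ≤ DD := fun w i => by
    have h1 := Finset.single_le_sum (f := fun i => w (D i)) (fun i _ => apply_nonneg w _) (Finset.mem_univ i)
    have h2 := Finset.single_le_sum (f := fun w : InfinitePlace k => ∑ i, w (D i))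
      (fun w _ => Finset.sum_nonneg fun i _ => apply_nonneg w _) (Finset.mem_univ w)
    simp only [DD]; linarith
  have hDD0 : 0 < DD := by
    have : 0 ≤ ∑ w : InfinitePlace k, ∑ i, w (D i) := Finset.sum_nonneg fun w _ => Finset.sum_nonneg fun i _ => apply_nonneg w _
    simp only [DD]; linarith
  obtain ⟨t, ht1, ht2, ht3⟩ := strong_approx v₀ S' hv₀S' (fun v => if v ∈ B1 then 1 else 0)
    (fun v => M v + N v + E v + 1) (fun _ => 0) (ε := η / (2 * DD)) (by positivity)
  have htD : ∀ v ∈ S', v ∉ B1 → ∀ i, v.valuation k (t * D i) ≤ exp (-((M v + N v + 1 : ℕ) : ℤ)) := fun v hv hvB i => by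
    have h1 := ht1 v hv
    simp only [if_neg hvB, sub_zero] at h1
    rw [map_mul]
    refine (mul_le_mul' h1 (hE v i)).trans (le_of_eq ?_)
    rw [← exp_add]; congr 1; push_cast; ring
  have hSf : ∀ v ∈ S, ∀ i, v.valuation k (P i + t * D i - a v i) ≤ exp (-((M v : ℕ) : ℤ)) := fun v hv i => by
    have hvB : v ∉ B1 := fun h' => by
      have := (hB1mem v).mp h'
      simp [S, this.1, this.2.1] at hv
    rw [show P i + t * D i - a v i = (P i - a v i) + t * D i by ring]
    refine (Valuation.map_add _ _ _).trans (max_le (((hPmem i).1 v hv).trans (exp_le_exp.mpr (by omega)))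
      ((htD v (Finset.mem_union_left _ (Finset.mem_union_left _ hv)) hvB i).trans (exp_le_exp.mpr (by omega))))
  refine ⟨fun i => P i + t * D i, fun v hv => ?_, fun v hv hne₀ => (hloc v _ (hSf v ?_)).1 hv hne₀,
    fun w => hlocw w _ fun i => ?_, fun v hv => ((hloc v _ (hSf v ?_)).2 hv).1⟩
  rotate_left
  · exact Finset.mem_union_left _ (Finset.mem_erase.mpr ⟨hne₀, hv⟩)
  · rw [show P i + t * D i - aw w i = (P i - aw w i) + t * D i by ring]
    have h1 : w (t * D i) ≤ η / (2 * DD) * DD := by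
      rw [map_mul]
      have := ht3 w
      rw [sub_zero] at this
      exact mul_le_mul this.le (hDD w i) (apply_nonneg w _) (by positivity)
    have h2 : η / (2 * DD) * DD = η / 2 := by field_simp
    calc w ((P i - aw w i) + t * D i) ≤ w (P i - aw w i) + w (t * D i) := w.1.add_le _ _
      _ < η / 2 + η / 2 := add_lt_add_of_lt_of_le ((hPmem i).2.2 w) (h1.trans h2.le)
      _ ≤ ηw w := (add_halves η).le.trans (hηle w)
  · exact Finset.mem_union_right _ hv
  have hne₀ : v ≠ v₀ := fun h' => hv (h' ▸ hv₀)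
  by_cases hvT : v ∈ T
  · exact ((hloc v _ (hSf v (Finset.mem_union_right _ hvT))).2 hvT).2
  by_cases hvB : v ∈ B1
  · refine hlocB v hvB _ fun i => ?_
    have h1 := ht1 v (Finset.mem_union_left _ (Finset.mem_union_right _ hvB))
    simp only [if_pos hvB] at h1
    rw [show P i + t * D i - b v i = (D i - (b v i - P i)) + (t - 1) * D i by ring]
    refine (Valuation.map_add _ _ _).trans (max_le ((hDmem i).1 v hvB) ?_)
    rw [map_mul]
    refine (mul_le_mul' h1 (hE v i)).trans ?_
    rw [← exp_add]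
    exact exp_le_exp.mpr (by push_cast; omega)
  by_cases hv2 : v ∈ hB2.toFinset
  · have hP1 := hgood1 v hv hvB hvT
    have hlt : ∀ i, v.valuation k (P i - (P i + t * D i)) < 1 := fun i => by
      rw [show P i - (P i + t * D i) = -(t * D i) by ring, Valuation.map_neg]
      refine lt_of_le_of_lt (htD v (Finset.mem_union_right _ hv2) hvB i) ?_
      rw [← exp_zero]; exact exp_lt_exp.mpr (by omega)
    have key := fun j => eval₂_congr (v.valuation k) (algebraMap O k) (fun c => HeightOneSpectrum.valuation_le_one v c)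
      (f j) P (fun i => P i + t * D i) hP1.1 hlt
    refine ⟨fun i => ?_, ?_⟩
    · show v.valuation k (P i + t * D i) ≤ 1
      rw [show P i + t * D i = P i - (P i - (P i + t * D i)) by ring]
      exact (Valuation.map_sub _ _ _).trans (max_le (hP1.1 i) (hlt i).le)
    · obtain ⟨j, hj⟩ := hP1.2
      refine ⟨j, ?_⟩
      rw [show MvPolynomial.eval₂ (algebraMap O k) (fun i => P i + t * D i) (f j) = MvPolynomial.eval₂ (algebraMap O k) P (f j) -
        (MvPolynomial.eval₂ (algebraMap O k) P (f j) - MvPolynomial.eval₂ (algebraMap O k) (fun i => P i + t * D i) (f j)) by ring,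
        Valuation.map_sub_eq_of_lt_left _ (hj.symm ▸ (key j).2)]
      exact hj
  · have htv : v.valuation k t ≤ 1 := ht2 v hne₀ (by
      simp only [S', S, Finset.mem_union, Finset.mem_erase, not_or]
      exact ⟨⟨⟨fun h' => hv h'.2, hvT⟩, hvB⟩, hv2⟩)
    have hx : ∀ i, v.valuation k (P i + t * D i) ≤ 1 := fun i => by
      refine (Valuation.map_add _ _ _).trans (max_le (hPint v hv hvT i) ?_)
      rw [map_mul]; exact mul_le_one' htv ((hDmem i).2.1 v hne₀ hvB)
    refine ⟨hx, ?_⟩
    by_contra hcon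
    push Not at hcon
    have hsum := congrArg (Polynomial.eval t) hh
    rw [Polynomial.eval_finsetSum, Polynomial.eval_one] at hsum
    have hterm : ∀ j, v.valuation k (Polynomial.eval t
        (h j * MvPolynomial.aeval (fun i => Polynomial.C (P i) + Polynomial.C (D i) * Polynomial.X) (F j))) < 1 := fun j => by
      have e1 : Polynomial.eval t (MvPolynomial.aeval (fun i => Polynomial.C (P i) + Polynomial.C (D i) * Polynomial.X) (F j)) =
          MvPolynomial.eval₂ (algebraMap O k) (fun i => P i + t * D i) (f j) := by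
        rw [← hF]
        have h2 := MvPolynomial.comp_aeval_apply (fun i => Polynomial.C (P i) + Polynomial.C (D i) * Polynomial.X)
          (Polynomial.aeval t : Polynomial k →ₐ[k] k) (F j)
        simp only [Polynomial.coe_aeval_eq_eval] at h2
        rw [h2, MvPolynomial.aeval_eq_eval]
        exact congrArg (fun g => MvPolynomial.eval g (F j)) (funext fun i => by rw [Polynomial.eval_add, Polynomial.eval_mul, Polynomial.eval_C, Polynomial.eval_C, Polynomial.eval_X, mul_comm])
      rw [Polynomial.eval_mul, map_mul, e1]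
      refine mul_lt_one_of_nonneg_of_lt_one_right ?_ zero_le (lt_of_le_of_ne
        (eval₂_congr (v.valuation k) (algebraMap O k) (fun c => HeightOneSpectrum.valuation_le_one v c) (f j) _ _ hx
          (fun i => by rw [sub_self, map_zero]; exact one_pos)).1 (hcon j))
      rw [Polynomial.eval_eq_sum, Polynomial.sum_def]
      refine Valuation.map_sum_le _ fun e he => ?_
      rw [map_mul, map_pow]
      refine mul_le_one' (le_of_eq ?_) (pow_le_one' htv e)
      by_contra hc
      exact hv2 ((Set.Finite.mem_toFinset _).mpr (Set.mem_iUnion.mpr ⟨j, Set.mem_biUnion he ⟨hv, hc⟩⟩))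
    have := Valuation.map_sum_lt (v.valuation k) (g := (1 : WithZero (Multiplicative ℤ))) one_ne_zero (fun j (_ : j ∈ Finset.univ) => hterm j)
    rw [hsum, map_one] at this
    exact lt_irrefl _ this

end Groth.Agent.NFApproxLib
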