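import Groth.Agent.NFApproxLib.Root
import Groth.Agent.NFApproxLib.Main

/-! Elements near local norms, supported at places where an extension has a place of degree one. -/

set_option autoImplicit false
universe u

namespace Groth.Agent.NFApproxLib

open NumberField IsDedekindDomain WithZero Polynomial
open scoped TensorProduct

variable {k : Type u} [Field k] {L : Type u} [Field L] [Algebra k L] {n : ℕ} (b : Module.Basis (Fin n) k L)

/-- The norm of a constant plus a general element. -/
noncomputable def normPoly : MvPolynomial (Fin (n + 1)) k :=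
  (Matrix.of fun r s => (if r = s then MvPolynomial.X 0 else 0) +
    ∑ i, MvPolynomial.C (Algebra.leftMulMatrix b (b i) r s) * MvPolynomial.X i.succ).det

lemma eval₂_normPoly {K : Type*} [CommRing K] [Algebra k K] (p : Fin (n + 1) → K) :
    MvPolynomial.eval₂ (algebraMap k K) p (normPoly b) =
      (p 0 • (1 : Matrix (Fin n) (Fin n) K) +
        ∑ i, p i.succ • (Algebra.leftMulMatrix b (b i)).map (algebraMap k K)).det := by
  rw [normPoly, ← MvPolynomial.coe_eval₂Hom, RingHom.map_det]
  congr 1
  ext r s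
  simp only [RingHom.mapMatrix_apply, Matrix.map_apply, Matrix.of_apply, map_add, map_sum, map_mul,
    MvPolynomial.eval₂Hom_C, MvPolynomial.eval₂Hom_X', Matrix.add_apply, Matrix.sum_apply, Matrix.smul_apply, smul_eq_mul,
    Matrix.one_apply]
  congr 1
  · split_ifs <;> simp
  · exact Finset.sum_congr rfl fun i _ => mul_comm _ _

lemma norm_eq_normPoly {K : Type u} [CommRing K] [Algebra k K] (x : K ⊗[k] L) :
    Algebra.norm K x = MvPolynomial.eval₂ (algebraMap k K) (Fin.cons 0 fun i => (b.baseChange K).repr x i) (normPoly b) := by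
  classical
  rw [Algebra.norm_eq_matrix_det (b.baseChange K), eval₂_normPoly]
  congr 1
  simp only [Fin.cons_zero, Fin.cons_succ, zero_smul, zero_add]
  conv_lhs => rw [← (b.baseChange K).sum_repr x]
  rw [map_sum]
  refine Finset.sum_congr rfl fun i _ => ?_
  rw [map_smul]
  congr 1
  ext r s
  rw [Algebra.leftMulMatrix_eq_repr_mul, Module.Basis.baseChange_apply, Module.Basis.baseChange_apply,
    Algebra.TensorProduct.tmul_mul_tmul, one_mul, Module.Basis.baseChange_repr_tmul, Matrix.map_apply,
    Algebra.leftMulMatrix_eq_repr_mul, Algebra.smul_def, mul_one]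

lemma leftMulMatrix_point (c : k) (y : Fin n → k) :
    Algebra.leftMulMatrix b (algebraMap k L c + ∑ i, y i • b i) =
      c • 1 + ∑ i, y i • (Algebra.leftMulMatrix b (b i)) := by
  simp [map_add, map_sum, map_smul, Algebra.algebraMap_eq_smul_one]

lemma eval_normPoly (c : k) (y : Fin n → k) :
    MvPolynomial.eval (Fin.cons c y) (normPoly b) = Algebra.norm k (algebraMap k L c + ∑ i, y i • b i) := by
  classical
  rw [Algebra.norm_eq_matrix_det b, leftMulMatrix_point, ← MvPolynomial.eval₂_id,
    show (RingHom.id k) = algebraMap k k from rfl, eval₂_normPoly]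
  simp

lemma eval₂_normPoly_map {K : Type*} [CommRing K] [Algebra k K] (p : Fin (n + 1) → k) :
    MvPolynomial.eval₂ (algebraMap k K) (fun i => algebraMap k K (p i)) (normPoly b) =
      algebraMap k K (MvPolynomial.eval p (normPoly b)) :=
  (MvPolynomial.eval₂_comp_left (algebraMap k K) (RingHom.id k) p (normPoly b)).symm

variable [NumberField k]

local notation "O" => NumberField.RingOfIntegers k

lemma charpoly_coeff_le_one (v : HeightOneSpectrum O) (M : Matrix (Fin n) (Fin n) k)
    (hM : ∀ r s, v.valuation k (M r s) ≤ 1) (e : ℕ) : v.valuation k (M.charpoly.coeff e) ≤ 1 := by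
  let R := (v.valuation k).valuationSubring
  let M' : Matrix (Fin n) (Fin n) R := Matrix.of fun r s => ⟨M r s, hM r s⟩
  have : M'.map R.subtype = M := by ext r s; rfl
  rw [← this, Matrix.charpoly_map, coeff_map]
  exact (M'.charpoly.coeff e).2

lemma valuation_eval_sub_lt (v : HeightOneSpectrum O) (g : k[X]) (hg : ∀ e, v.valuation k (g.coeff e) ≤ 1) (x y : k)
    (hy : v.valuation k y ≤ 1) (h : v.valuation k (x - y) < 1) : v.valuation k (g.eval x - g.eval y) < 1 := by
  let R := (v.valuation k).valuationSubring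
  obtain ⟨g', hg'⟩ : g ∈ lifts R.subtype := (lifts_iff_coeff_lifts g).mpr fun e => ⟨⟨g.coeff e, hg e⟩, rfl⟩
  have hx : v.valuation k x ≤ 1 := by
    rw [show x = (x - y) + y by ring]
    exact (Valuation.map_add _ _ _).trans (max_le h.le hy)
  let x' : R := ⟨x, hx⟩
  let y' : R := ⟨y, hy⟩
  obtain ⟨z, hz⟩ := g'.evalSubFactor x' y'
  have hev : ∀ a : R, g.eval (a : k) = ((g'.eval a : R) : k) := fun a => by
    rw [← hg']
    exact (eval_map _ _).trans (eval₂_at_apply R.subtype a)
  rw [hev x', hev y', ← AddSubgroupClass.coe_sub, hz, MulMemClass.coe_mul, map_mul]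
  exact mul_lt_one_of_nonneg_of_lt_one_right z.2 zero_le h

/-- A residue at which a monic integral polynomial is a unit, when the residue field is large. -/
lemma exists_unit_value (v : HeightOneSpectrum O) (g : k[X]) (hm : g.Monic)
    (hg : ∀ e, v.valuation k (g.coeff e) ≤ 1) (hcard : g.natDegree < Ideal.absNorm v.asIdeal) :
    ∃ r : O, v.valuation k (g.eval (algebraMap O k r)) = 1 := by
  classical
  haveI : Finite (O ⧸ v.asIdeal) := Ideal.finiteQuotientOfFreeOfNeBot v.asIdeal v.ne_bot
  haveI : Fintype (O ⧸ v.asIdeal) := Fintype.ofFinite _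
  have hc : g.natDegree + 1 ≤ Fintype.card (O ⧸ v.asIdeal) := by
    rw [Ideal.absNorm_apply, Submodule.cardQuot_apply, Nat.card_eq_fintype_card] at hcard
    omega
  obtain ⟨s, hs, hcs⟩ := Finset.exists_subset_card_eq (s := (Finset.univ : Finset (O ⧸ v.asIdeal))) (n := g.natDegree + 1) (by rw [Finset.card_univ]; exact hc)
  let r : (O ⧸ v.asIdeal) → k := fun q => algebraMap O k (Quotient.out q)
  have hr : ∀ q q', q ≠ q' → v.valuation k (r q - r q') = 1 := fun q q' hne => by
    simp only [r, ← map_sub]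
    refine (HeightOneSpectrum.valuation_eq_one_iff_notMem v).mpr fun hmem => hne ?_
    have : Ideal.Quotient.mk v.asIdeal (Quotient.out q) = Ideal.Quotient.mk v.asIdeal (Quotient.out q') := Ideal.Quotient.eq.mpr hmem
    rwa [Ideal.Quotient.mk_out, Ideal.Quotient.mk_out] at this
  have hle : ∀ q, v.valuation k (r q) ≤ 1 := fun q => HeightOneSpectrum.valuation_le_one v _
  by_contra hcon
  push Not at hcon
  have hlt : ∀ q, v.valuation k (g.eval (r q)) < 1 := fun q => lt_of_le_of_ne (valuation_eval_le v g hg (hle q)) (hcon _)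
  have hsum := Lagrange.leadingCoeff_eq_sum (v := r) (s := s) (P := g) (fun a _ b _ hab => by
    by_contra hne
    have := hr a b hne
    rw [hab, sub_self, map_zero] at this
    exact zero_ne_one this) (by rw [hcs, degree_eq_natDegree hm.ne_zero]; push_cast; rfl)
  rw [hm.leadingCoeff] at hsum
  have h2 : v.valuation k (∑ q ∈ s, g.eval (r q) / ∏ j ∈ s.erase q, (r q - r j)) < 1 := by
    refine Valuation.map_sum_lt _ one_ne_zero fun q _ => ?_
    rw [map_div₀, map_prod, Finset.prod_eq_one fun j hj => hr q j (Ne.symm (Finset.mem_erase.mp hj).1), div_one]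
    exact hlt q
  rw [← hsum, map_one] at h2
  exact lt_irrefl _ h2

theorem near_norm [NumberField L]
    (Sf : Finset (HeightOneSpectrum O)) (Si : Finset (InfinitePlace k))
    (tf : (v : HeightOneSpectrum O) → v.adicCompletion k) (ti : (w : InfinitePlace k) → w.Completion)
    (htf : ∀ v ∈ Sf, tf v ≠ 0 ∧ ∃ x : (v.adicCompletion k) ⊗[k] L, Algebra.norm (v.adicCompletion k) x = tf v)
    (hti : ∀ w ∈ Si, ti w ≠ 0 ∧ ∃ x : w.Completion ⊗[k] L, Algebra.norm w.Completion x = ti w)
    (Uf : (v : HeightOneSpectrum O) → Set (v.adicCompletion k)) (hUf : ∀ v ∈ Sf, IsOpen (Uf v) ∧ tf v ∈ Uf v)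
    (Ui : (w : InfinitePlace k) → Set w.Completion) (hUi : ∀ w ∈ Si, IsOpen (Ui w) ∧ ti w ∈ Ui w)
    (v₀ : HeightOneSpectrum O) (hv₀ : v₀ ∉ Sf) (hLv₀ : Nonempty (L →ₐ[k] v₀.adicCompletion k)) :
    ∃ t : k, t ≠ 0 ∧ (∀ v ∈ Sf, algebraMap k (v.adicCompletion k) t ∈ Uf v) ∧
      (∀ w ∈ Si, algebraMap k w.Completion t ∈ Ui w) ∧
      (∀ v : HeightOneSpectrum O, v ∉ Sf → v ≠ v₀ → v.valuation k t ≤ 1) ∧
      ∀ v : HeightOneSpectrum O, v ∉ Sf → v.valuation k t = 1 ∨ Nonempty (L →ₐ[k] v.adicCompletion k) := by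
  classical
  haveI : FiniteDimensional k L := Module.Finite.of_restrictScalars_finite ℚ k L
  let d := Module.finrank k L
  let b := Module.finBasis k L
  -- exceptional places
  let Msmall : Set (HeightOneSpectrum O) := {v | Ideal.absNorm v.asIdeal ≤ d}
  have hsmall : Msmall.Finite :=
    ((Ideal.finite_setOfPred_absNorm_le (S := O) d).preimage (fun v _ w _ h => HeightOneSpectrum.ext h)).subset fun v hv => hv
  let Nonint : Set (HeightOneSpectrum O) := ⋃ i : Fin d, ⋃ r : Fin d, ⋃ s : Fin d,
    {v | v ∉ (∅ : Finset (HeightOneSpectrum O)) ∧ Algebra.leftMulMatrix b (b i) r s ≠ 0 ∧ v.valuation k (Algebra.leftMulMatrix b (b i) r s) ≠ 1}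
  have hnonint : Nonint.Finite := Set.finite_iUnion fun i => Set.finite_iUnion fun r => Set.finite_iUnion fun s => by
    by_cases h0 : Algebra.leftMulMatrix b (b i) r s = 0
    · exact Set.finite_empty.subset fun v hv => absurd h0 hv.2.1
    · exact (finite_ne_one (∅ : Finset (HeightOneSpectrum O)) h0).subset fun v hv => ⟨hv.1, hv.2.2⟩
  let T := (hsmall.toFinset ∪ hnonint.toFinset) \ (insert v₀ Sf)
  have hTmem : ∀ v, v ∉ Sf → v ≠ v₀ → v ∉ T →
      d < Ideal.absNorm v.asIdeal ∧ ∀ i r s, v.valuation k (Algebra.leftMulMatrix b (b i) r s) ≤ 1 := by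
    intro v h1 h2 h3
    have h4 : v ∉ hsmall.toFinset ∧ v ∉ hnonint.toFinset := by
      simpa [T, h1, h2] using h3
    refine ⟨by simpa [Msmall] using h4.1, fun i r s => ?_⟩
    by_cases h0 : Algebra.leftMulMatrix b (b i) r s = 0
    · rw [h0, map_zero]; exact zero_le
    · refine le_of_eq (by_contra fun hne => h4.2 ?_)
      rw [Set.Finite.mem_toFinset]
      exact Set.mem_iUnion.mpr ⟨i, Set.mem_iUnion.mpr ⟨r, Set.mem_iUnion.mpr ⟨s, Finset.notMem_empty v, h0, hne⟩⟩⟩
  -- neighbourhoods
  let ev : (v : HeightOneSpectrum O) → (Fin (d + 1) → v.adicCompletion k) → v.adicCompletion k := fun v p =>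
    MvPolynomial.eval₂ (algebraMap k (v.adicCompletion k)) p (normPoly b)
  have hev : ∀ v, Continuous (ev v) := fun v => by
    have : ev v = fun p => MvPolynomial.eval p (MvPolynomial.map (algebraMap k (v.adicCompletion k)) (normPoly b)) :=
      funext fun p => (MvPolynomial.eval_map _ _ _).symm
    rw [this]; exact MvPolynomial.continuous_eval _
  have hloc : ∀ v, ∃ (a : Fin (d + 1) → k) (M : ℕ), ∀ p : Fin (d + 1) → k, (∀ i, v.valuation k (p i - a i) ≤ exp (-(M : ℤ))) →
      (v ∈ Sf → algebraMap k (v.adicCompletion k) (MvPolynomial.eval p (normPoly b)) ∈ Uf v) ∧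
      (v ∈ T → v.valuation k (MvPolynomial.eval p (normPoly b)) = 1) := by
    intro v
    by_cases hv : v ∈ Sf
    · obtain ⟨-, x, hx⟩ := htf v hv
      obtain ⟨a, M, -, h⟩ := exists_ball v (ev v ⁻¹' Uf v) ((hUf v hv).1.preimage (hev v))
        (Fin.cons 0 fun i => (b.baseChange (v.adicCompletion k)).repr x i) (by
          show ev v _ ∈ Uf v
          rw [show ev v _ = Algebra.norm (v.adicCompletion k) x from (norm_eq_normPoly b x).symm, hx]
          exact (hUf v hv).2)
      refine ⟨a, M, fun p hp => ⟨fun _ => ?_, fun hT => ?_⟩⟩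
      · rw [← eval₂_normPoly_map]; exact (h p hp).1
      · simp [T, hv] at hT
    · let U : Set (v.adicCompletion k) := {x | Valued.v (x - 1) < 1}
      have hU : IsOpen U := isOpen_iff_mem_nhds.mpr fun x hx => Valued.mem_nhds.mpr ⟨1, fun y hy => by
        have hy' : Valued.v.restrict (y - x) < 1 := hy
        rw [Valuation.restrict_lt_iff_lt_embedding, map_one] at hy'
        show Valued.v (y - 1) < 1
        rw [show y - 1 = (y - x) + (x - 1) by ring]
        exact Valuation.map_add_lt _ hy' hx⟩
      obtain ⟨a, M, -, h⟩ := exists_ball v (ev v ⁻¹' U) (hU.preimage (hev v))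
        (fun i => algebraMap k (v.adicCompletion k) ((Fin.cons 0 fun i => b.repr 1 i : Fin (d + 1) → k) i)) (by
          show Valued.v (ev v _ - 1) < 1
          rw [show ev v _ = algebraMap k (v.adicCompletion k) _ from eval₂_normPoly_map b _, eval_normPoly, map_zero,
            zero_add, b.sum_repr, map_one, map_one, sub_self, map_zero]
          exact one_pos)
      refine ⟨a, M, fun p hp => ⟨fun h' => absurd h' hv, fun _ => ?_⟩⟩
      have h1 : Valued.v (algebraMap k (v.adicCompletion k) (MvPolynomial.eval p (normPoly b)) - 1) < 1 := by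
        rw [← eval₂_normPoly_map]; exact (h p hp).1
      rw [← map_one (algebraMap k (v.adicCompletion k)), ← map_sub] at h1
      have h2 : v.valuation k (MvPolynomial.eval p (normPoly b) - 1) < 1 :=
        (HeightOneSpectrum.valuedAdicCompletion_eq_valuation' v _).symm.trans_lt h1
      rw [show MvPolynomial.eval p (normPoly b) = 1 + (MvPolynomial.eval p (normPoly b) - 1) by ring,
        Valuation.map_add_eq_of_lt_left _ (by rwa [map_one]), map_one]
  choose a M hloc using hloc
  have hlocw : ∀ w : InfinitePlace k, ∃ (a : Fin (d + 1) → k) (η : ℝ), 0 < η ∧ ∀ p : Fin (d + 1) → k, (∀ i, w (p i - a i) < η) →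
      w ∈ Si → algebraMap k w.Completion (MvPolynomial.eval p (normPoly b)) ∈ Ui w := by
    intro w
    by_cases hw : w ∈ Si
    · obtain ⟨-, x, hx⟩ := hti w hw
      have hc : Continuous fun p : Fin (d + 1) → w.Completion => MvPolynomial.eval₂ (algebraMap k w.Completion) p (normPoly b) := by
        simp only [← MvPolynomial.eval_map]; exact MvPolynomial.continuous_eval _
      obtain ⟨a, η, hη, h⟩ := exists_ball_inf w _ ((hUi w hw).1.preimage hc)
        (Fin.cons 0 fun i => (b.baseChange w.Completion).repr x i) (by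
          show MvPolynomial.eval₂ _ _ _ ∈ Ui w
          rw [← norm_eq_normPoly b x, hx]; exact (hUi w hw).2)
      refine ⟨a, η, hη, fun p hp _ => ?_⟩
      rw [← eval₂_normPoly_map]; exact h p hp
    · exact ⟨0, 1, one_pos, fun _ _ h => absurd h hw⟩
  choose aw ηw hηw hlocw using hlocw
  let η := Finset.univ.inf' Finset.univ_nonempty ηw
  have hη : 0 < η := (Finset.lt_inf'_iff _).mpr fun w _ => hηw w
  have hηle : ∀ w, η ≤ ηw w := fun w => Finset.inf'_le _ (Finset.mem_univ w)
  -- a primitive element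
  let S := Sf ∪ T
  have hv₀S : v₀ ∉ S := by simp [S, T, hv₀]
  haveI : Algebra.IsSeparable k L := inferInstance
  haveI : Finite (IntermediateField k L) := (Field.exists_primitive_element_iff_finite_intermediateField k L).mp
    ⟨inferInstance, Field.exists_primitive_element k L⟩
  haveI : Fintype (IntermediateField k L) := Fintype.ofFinite _
  have hlin : ∀ E : IntermediateField k L, ∃ ψ : MvPolynomial (Fin d) k, ψ ≠ 0 ∧
      (E ≠ ⊤ → ∀ y : Fin d → k, ∑ i, y i • b i ∈ E → MvPolynomial.eval y ψ = 0) := by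
    intro E
    by_cases hE : E = ⊤
    · exact ⟨1, one_ne_zero, fun h => absurd hE h⟩
    have hlt : Subalgebra.toSubmodule E.toSubalgebra < ⊤ := lt_top_iff_ne_top.mpr fun h =>
      hE (IntermediateField.toSubalgebra_injective (Subalgebra.toSubmodule.injective (h.trans (by simp))))
    obtain ⟨φ, hφ, hle⟩ := Submodule.exists_le_ker_of_lt_top _ hlt
    refine ⟨∑ i, MvPolynomial.C (φ (b i)) * MvPolynomial.X i, fun h0 => hφ (b.ext fun i => ?_), fun _ y hy => ?_⟩
    · have := congrArg (MvPolynomial.coeff (Finsupp.single i 1)) h0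
      simpa [MvPolynomial.coeff_sum, MvPolynomial.coeff_C_mul, MvPolynomial.coeff_X, Finsupp.single_left_inj] using this
    · have h0 : φ (∑ i, y i • b i) = 0 := hle hy
      simp only [map_sum, map_smul, smul_eq_mul] at h0
      simp only [map_sum, MvPolynomial.eval_mul, MvPolynomial.eval_C, MvPolynomial.eval_X]
      refine Eq.trans (Finset.sum_congr rfl fun i _ => ?_) h0
      exact mul_comm _ _
  choose ψ hψ hψE using hlin
  obtain ⟨y, hy, hyp⟩ : ∃ y : Fin d → k, (∀ i, y i ∈ {t : k | (∀ v ∈ S, v.valuation k (t - a v i.succ) ≤ exp (-((M v + 1 : ℕ) : ℤ))) ∧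
      (∀ v, v ≠ v₀ → v ∉ S → v.valuation k t ≤ 1) ∧ ∀ w : InfinitePlace k, w (t - aw w i.succ) < η}) ∧
      MvPolynomial.eval y (∏ E, ψ E) ≠ 0 := by
    by_contra h
    push Not at h
    have hne : (∏ E, ψ E) ≠ 0 := Finset.prod_ne_zero_iff.mpr fun E _ => hψ E
    refine hne (MvPolynomial.funext_set _ (fun i => infinite_solutions v₀ S hv₀S
      (fun v => a v i.succ) (fun v => M v + 1) (fun w => aw w i.succ) hη) fun x hx => ?_)
    rw [map_zero]
    exact h x fun i => hx i (Set.mem_univ i)
  rw [map_prod, Finset.prod_ne_zero_iff] at hyp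
  set θ : L := -∑ i, y i • b i with hθdef
  have hθ : IntermediateField.adjoin k {θ} = ⊤ := by
    by_contra hne
    refine hyp _ (Finset.mem_univ _) (hψE _ hne y ?_)
    have := neg_mem (IntermediateField.mem_adjoin_simple_self k θ)
    rwa [hθdef, neg_neg] at this
  set G := (Algebra.leftMulMatrix b θ).charpoly with hG
  have hGd : G.natDegree = d := by rw [hG, Matrix.charpoly_natDegree_eq_dim, Fintype.card_fin]
  have hGmin : minpoly k θ = G := by
    refine eq_of_monic_of_associated (minpoly.monic (IsIntegral.of_finite k θ)) (Matrix.charpoly_monic _)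
      (associated_of_dvd_of_natDegree_le (minpoly.dvd k θ ?_) (Matrix.charpoly_monic _).ne_zero ?_)
    · apply Algebra.leftMulMatrix_injective b
      rw [← aeval_algHom_apply, map_zero]
      exact Matrix.aeval_self_charpoly _
    · rw [hGd, ← IntermediateField.adjoin.finrank (IsIntegral.of_finite k θ), hθ, IntermediateField.finrank_top']
  obtain ⟨pa, pb, hab⟩ := (separable_def' _).mp (Algebra.IsSeparable.isSeparable k θ : (minpoly k θ).Separable)
  let Bad : Set (HeightOneSpectrum O) := ⋃ P ∈ ({pa, pb} : Finset k[X]), ⋃ e ∈ P.support,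
    {v : HeightOneSpectrum O | v ∉ insert v₀ S ∧ v.valuation k (P.coeff e) ≠ 1}
  have hBad : Bad.Finite := Set.Finite.biUnion (Finset.finite_toSet _) fun P _ =>
    P.support.finite_toSet.biUnion fun e he => finite_ne_one _ (mem_support_iff.mp he)
  let B := hBad.toFinset
  have hBS : ∀ v ∈ B, v ∉ S ∧ v ≠ v₀ := fun v hv => by
    simp only [B, Set.Finite.mem_toFinset, Bad, Set.mem_iUnion] at hv
    obtain ⟨P, -, e, -, hv, -⟩ := hv
    simp only [Finset.mem_insert, not_or] at hv
    exact ⟨hv.2, hv.1⟩
  have hGint : ∀ v, v ∉ S → v ≠ v₀ → ∀ e, v.valuation k (G.coeff e) ≤ 1 := fun v hvS hv e => by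
    refine charpoly_coeff_le_one v _ (fun r s => ?_) e
    simp only [hθdef, map_neg, map_sum, map_smul, Matrix.neg_apply, Matrix.sum_apply, Matrix.smul_apply, smul_eq_mul,
      Valuation.map_neg]
    refine Valuation.map_sum_le _ fun i _ => ?_
    rw [map_mul]
    refine mul_le_one' ((hy i).2.1 v hv hvS) ?_
    simp only [S, Finset.mem_union, not_or] at hvS
    exact (hTmem v hvS.1 hv hvS.2).2 i r s
  have hroot : ∀ v, ∃ r : k, v ∈ B → v.valuation k r ≤ 1 ∧ v.valuation k (G.eval r) = 1 := fun v => by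
    by_cases hv : v ∈ B
    · obtain ⟨hvS, hv0⟩ := hBS v hv
      simp only [S, Finset.mem_union, not_or] at hvS
      obtain ⟨r, hr⟩ := exists_unit_value v G (Matrix.charpoly_monic _) (hGint v (by simp [S, hvS]) hv0)
        (by rw [hGd]; exact (hTmem v hvS.1 hv0 hvS.2).1)
      exact ⟨algebraMap O k r, fun _ => ⟨HeightOneSpectrum.valuation_le_one v r, hr⟩⟩
    · exact ⟨0, fun h => absurd h hv⟩
  choose r hr using hroot
  let S' := S ∪ B
  have hv₀S' : v₀ ∉ S' := fun h => by
    rcases Finset.mem_union.mp h with h | h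
    exacts [hv₀S h, (hBS _ h).2 rfl]
  obtain ⟨c, ⟨hc1, hc2, hc3⟩, hcne⟩ : ∃ c, c ∈ {t : k | (∀ v ∈ S', v.valuation k (t - if v ∈ B then r v else a v 0) ≤ exp (-((M v + 1 : ℕ) : ℤ))) ∧
      (∀ v, v ≠ v₀ → v ∉ S' → v.valuation k t ≤ 1) ∧ ∀ w : InfinitePlace k, w (t - aw w 0) < η} ∧
      algebraMap k L c + ∑ i, y i • b i ≠ 0 := by
    have hinf := infinite_solutions v₀ S' hv₀S' (fun v => if v ∈ B then r v else a v 0) (fun v => M v + 1) (fun w => aw w 0) hη
    obtain ⟨c, hc, hc'⟩ := (hinf.diff (Set.Subsingleton.finite (s := {c | algebraMap k L c = θ})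
      fun c hc c' hc' => (algebraMap k L).injective (hc.trans hc'.symm))).nonempty
    refine ⟨c, hc, fun h => hc' ?_⟩
    show algebraMap k L c = θ
    rw [hθdef]; exact eq_neg_of_add_eq_zero_left h
  set t := MvPolynomial.eval (Fin.cons c y : Fin (d + 1) → k) (normPoly b) with ht
  have htG : G.eval c = t := by
    rw [ht, eval_normPoly, Algebra.norm_eq_matrix_det b, hG, Matrix.eval_charpoly, leftMulMatrix_point]
    congr 1
    rw [hθdef]
    simp [Matrix.scalar_apply, sub_neg_eq_add, Matrix.smul_one_eq_diagonal]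
    rfl
  have hnear : ∀ v ∈ S, ∀ i, v.valuation k ((Fin.cons c y : Fin (d + 1) → k) i - a v i) ≤ exp (-(M v : ℤ)) := fun v hv i => by
    induction i using Fin.cases with
    | zero =>
      have := hc1 v (Finset.mem_union_left _ hv)
      rw [if_neg fun h => (hBS v h).1 hv] at this
      rw [Fin.cons_zero]
      exact this.trans (exp_le_exp.mpr (by push_cast; omega))
    | succ i =>
      rw [Fin.cons_succ]
      exact ((hy i).1 v hv).trans (exp_le_exp.mpr (by push_cast; omega))
  have hint : ∀ v, v ∉ S → v ≠ v₀ → v.valuation k c ≤ 1 := fun v hvS hv => by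
    by_cases hB : v ∈ B
    · have := hc1 v (Finset.mem_union_right _ hB)
      rw [if_pos hB] at this
      rw [show c = (c - r v) + r v by ring]
      exact (Valuation.map_add _ _ _).trans (max_le (this.trans (by rw [← exp_zero]; exact exp_le_exp.mpr (by omega))) (hr v hB).1)
    · exact hc2 v hv (by simp [S', hvS, hB])
  have hmain : ∀ v, v ∉ Sf → v ≠ v₀ → v.valuation k t ≤ 1 ∧ (v.valuation k t = 1 ∨ Nonempty (L →ₐ[k] v.adicCompletion k)) := by
    intro v hvf hv
    by_cases hT : v ∈ T
    · have := (hloc v _ (hnear v (Finset.mem_union_right _ hT))).2 hT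
      exact ⟨this.le, Or.inl this⟩
    have hvS : v ∉ S := by simp [S, hvf, hT]
    rw [← htG]
    refine ⟨valuation_eval_le v G (hGint v hvS hv) (hint v hvS hv), ?_⟩
    by_cases hB : v ∈ B
    · have := hc1 v (Finset.mem_union_right _ hB)
      rw [if_pos hB] at this
      have h1 := valuation_eval_sub_lt v G (hGint v hvS hv) c (r v) (hr v hB).1
        (lt_of_le_of_lt this (by rw [← exp_zero]; exact exp_lt_exp.mpr (by omega)))
      refine Or.inl ?_
      rw [show G.eval c = G.eval (r v) + (G.eval c - G.eval (r v)) by ring,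
        Valuation.map_add_eq_of_lt_left _ (by rw [(hr v hB).2]; exact h1), (hr v hB).2]
    · by_cases h1 : v.valuation k (G.eval c) = 1
      · exact Or.inl h1
      have hlt := lt_of_le_of_ne (valuation_eval_le v G (hGint v hvS hv) (hint v hvS hv)) h1
      have hgood : ∀ P ∈ ({pa, pb} : Finset k[X]), ∀ e, v.valuation k (P.coeff e) ≤ 1 := fun P hP e => by
        by_cases he : P.coeff e = 0
        · rw [he, map_zero]; exact zero_le
        · refine le_of_eq (by_contra fun hne => hB ?_)
          rw [Set.Finite.mem_toFinset]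
          exact Set.mem_biUnion hP (Set.mem_biUnion (mem_support_iff.mpr he) ⟨by simp [hv, hvS], hne⟩)
      exact Or.inr (embed_of_root_mod θ hθ v (by rw [hGmin]; exact hGint v hvS hv) pa pb hab (hgood pa (by simp)) (hgood pb (by simp))
        c (hint v hvS hv) (by rw [hGmin]; exact hlt))
  refine ⟨t, ?_, fun v hv => (hloc v _ (hnear v (Finset.mem_union_left _ hv))).1 hv, fun w hw => hlocw w _ (fun i => ?_) hw,
    fun v hvf hv => (hmain v hvf hv).1, fun v hvf => ?_⟩
  · rw [ht, eval_normPoly]
    exact Algebra.norm_ne_zero_iff.mpr hcne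
  · refine lt_of_lt_of_le ?_ (hηle w)
    induction i using Fin.cases with
    | zero => simpa using hc3 w
    | succ i => simpa using (hy i).2.2 w
  · by_cases hv : v = v₀
    · subst hv; exact Or.inr hLv₀
    · exact (hmain v hvf hv).2

end Groth.Agent.NFApproxLib
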