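import Groth.Agent.NFApproxLib.Strong
import Groth.Agent.DimFormulaLib.LocalDim

/-! Strong approximation on the complement of a closed subset of codimension two in affine space. -/

set_option autoImplicit false
universe u

namespace Groth.Agent.NFApproxLib

open NumberField IsDedekindDomain WithZero

/-- A congruence: polynomials with integral coefficients respect congruences of integral points. -/
lemma eval₂_congr {R A : Type*} [CommRing R] [CommRing A] {Γ : Type*} [LinearOrderedCommGroupWithZero Γ]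
    (val : Valuation A Γ) (φ : R →+* A) (hφ : ∀ c, val (φ c) ≤ 1) {σ : Type*} (p : MvPolynomial σ R) (x y : σ → A)
    (hx : ∀ i, val (x i) ≤ 1) (hxy : ∀ i, val (x i - y i) < 1) :
    val (MvPolynomial.eval₂ φ x p) ≤ 1 ∧ val (MvPolynomial.eval₂ φ x p - MvPolynomial.eval₂ φ y p) < 1 := by
  have hy : ∀ i, val (y i) ≤ 1 := fun i => by
    rw [show y i = x i - (x i - y i) by ring]
    exact (val.map_sub _ _).trans (max_le (hx i) (hxy i).le)
  induction p using MvPolynomial.induction_on with
  | C c => simp [hφ c]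
  | add a b ha hb =>
    rw [MvPolynomial.eval₂_add, MvPolynomial.eval₂_add]
    refine ⟨(val.map_add _ _).trans (max_le ha.1 hb.1), ?_⟩
    rw [show MvPolynomial.eval₂ φ x a + MvPolynomial.eval₂ φ x b - (MvPolynomial.eval₂ φ y a + MvPolynomial.eval₂ φ y b) =
      (MvPolynomial.eval₂ φ x a - MvPolynomial.eval₂ φ y a) + (MvPolynomial.eval₂ φ x b - MvPolynomial.eval₂ φ y b) by ring]
    exact val.map_add_lt ha.2 hb.2
  | mul_X a i ha =>
    rw [MvPolynomial.eval₂_mul, MvPolynomial.eval₂_mul, MvPolynomial.eval₂_X, MvPolynomial.eval₂_X]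
    refine ⟨by rw [map_mul]; exact mul_le_one' ha.1 (hx i), ?_⟩
    rw [show MvPolynomial.eval₂ φ x a * x i - MvPolynomial.eval₂ φ y a * y i =
      MvPolynomial.eval₂ φ x a * (x i - y i) + (MvPolynomial.eval₂ φ x a - MvPolynomial.eval₂ φ y a) * y i by ring]
    refine val.map_add_lt ?_ ?_ <;> rw [map_mul]
    · exact mul_lt_one_of_nonneg_of_lt_one_right ha.1 zero_le (hxy i)
    · exact mul_lt_one_of_nonneg_of_lt_one_left zero_le ha.2 (hy i)

/-- Algebraically independent elements bound the dimension below. -/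
lemma not_injective_of_dim_lt {k : Type u} [Field k] {n : ℕ} {B : Type u} [CommRing B] [Algebra k B]
    [Algebra.FiniteType k B] (φ : MvPolynomial (Fin n) k →ₐ[k] B) (hB : ringKrullDim B < n) :
    ¬ Function.Injective φ := by
  intro hinj
  have hdisj : Disjoint ((⊥ : Ideal B) : Set B)
      ((Submonoid.map (φ : MvPolynomial (Fin n) k →* B) (nonZeroDivisors (MvPolynomial (Fin n) k))) : Set B) := by
    rw [Set.disjoint_left]
    rintro z hz ⟨h, hh, rfl⟩
    exact nonZeroDivisors.ne_zero hh (hinj ((Submodule.mem_bot _).mp hz |>.trans (map_zero φ).symm))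
  obtain ⟨q, hq, -, hqd⟩ := Ideal.exists_le_prime_disjoint ⊥ _ hdisj
  haveI := hq
  obtain ⟨r, hr⟩ := Groth.Agent.DimFormulaLib.exists_nat_trdeg_quotient k B q
  have hind : AlgebraicIndependent k (fun i => Ideal.Quotient.mkₐ k q (φ (MvPolynomial.X i))) := by
    rw [algebraicIndependent_iff]
    intro h hh
    by_contra h0
    have hmem : φ h ∈ q := by
      rw [← Ideal.Quotient.eq_zero_iff_mem, ← hh]
      have : (MvPolynomial.aeval fun i => Ideal.Quotient.mkₐ k q (φ (MvPolynomial.X i))) = (Ideal.Quotient.mkₐ k q).comp φ :=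
        MvPolynomial.algHom_ext fun i => by simp
      rw [this]; rfl
    exact Set.disjoint_left.mp hqd hmem ⟨h, mem_nonZeroDivisors_of_ne_zero h0, rfl⟩
  have h1 : n ≤ r := by
    have := hind.lift_cardinalMk_le_trdeg
    rw [hr] at this
    simpa using this
  have h2 : ringKrullDim (B ⧸ q) ≤ ringKrullDim B := ringKrullDim_quotient_le q
  rw [Groth.Agent.DimFormulaLib.ringKrullDim_eq_trdeg k r hr] at h2
  have h3 := lt_of_le_of_lt h2 hB
  have h4 : r < n := by exact_mod_cast h3
  omega

variable {k : Type u} [Field k] [NumberField k]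

local notation "O" => NumberField.RingOfIntegers k

/-- A rational approximation inside an open set. -/
lemma exists_ball (v : HeightOneSpectrum O) {n : ℕ} (U : Set (Fin n → v.adicCompletion k)) (hU : IsOpen U)
    (P : Fin n → v.adicCompletion k) (hP : P ∈ U) :
    ∃ (a : Fin n → k) (M : ℕ), (∀ i, Valued.v (algebraMap k (v.adicCompletion k) (a i) - P i) < 1) ∧
      ∀ b : Fin n → k, (∀ i, v.valuation k (b i - a i) ≤ exp (-(M : ℤ))) →
        (fun i => algebraMap k (v.adicCompletion k) (b i)) ∈ U ∧ ∀ i, Valued.v (algebraMap k (v.adicCompletion k) (b i) - P i) < 1 := by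
  classical
  obtain ⟨s, hs, hsU⟩ := isOpen_pi_iff'.mp hU P hP
  have hball : ∀ i, ∃ M : ℕ, ∀ z : v.adicCompletion k, Valued.v (z - P i) ≤ exp (-(M : ℤ)) → z ∈ s i := by
    intro i
    obtain ⟨γ, hγ⟩ := Valued.mem_nhds.mp ((hs i).1.mem_nhds (hs i).2)
    obtain ⟨c, hc⟩ : ∃ c : ℤ, exp c = MonoidWithZeroHom.ValueGroup₀.embedding γ.1 :=
      ⟨_, exp_log (by simpa using γ.ne_zero)⟩
    refine ⟨(1 - c).toNat, fun z hz => hγ ?_⟩
    show Valued.v.restrict (z - P i) < γ.1
    rw [Valuation.restrict_lt_iff_lt_embedding, ← hc]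
    exact lt_of_le_of_lt hz (exp_lt_exp.mpr (by omega))
  choose M hM using hball
  let N := Finset.univ.sup M + 1
  have hN : ∀ i, M i + 1 ≤ N := fun i => Nat.add_le_add_right (Finset.le_sup (Finset.mem_univ i)) 1
  have hmem : ∀ i, ∃ a : k, Valued.v (algebraMap k (v.adicCompletion k) a - P i) ≤ exp (-(N : ℤ)) := fun i => by
    obtain ⟨u, hu⟩ : ∃ u : (MonoidWithZeroHom.ValueGroup₀ (.ofClass (Valued.v (R := v.adicCompletion k)))) ˣ,
        MonoidWithZeroHom.ValueGroup₀.embedding u.1 = exp (-(N : ℤ)) := by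
      obtain ⟨x, hx⟩ := HeightOneSpectrum.valuedAdicCompletion_surjective k v (exp (-(N : ℤ)))
      refine ⟨Units.mk0 (Valued.v.restrict x) ?_, ?_⟩
      · intro h0
        have := congrArg MonoidWithZeroHom.ValueGroup₀.embedding h0
        rw [Valuation.embedding_restrict, map_zero, hx] at this
        exact exp_ne_zero this
      · rw [Units.val_mk0, Valuation.embedding_restrict, hx]
    have hn : {z | Valued.v.restrict (z - P i) < u.1} ∈ nhds (P i) := Valued.mem_nhds.mpr ⟨u, subset_rfl⟩
    obtain ⟨_, hz, a, rfl⟩ := mem_closure_iff_nhds.mp ((v.denseRange_algebraMap k) (P i)) _ hn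
    refine ⟨a, ?_⟩
    rw [Set.mem_ofPred_eq, Valuation.restrict_lt_iff_lt_embedding, hu] at hz
    exact hz.le
  choose a ha using hmem
  refine ⟨a, N, fun i => lt_of_le_of_lt (ha i) (exp_lt_exp.mpr (by omega) |>.trans_le (le_of_eq exp_zero)), fun b hb => ?_⟩
  have hbP : ∀ i, Valued.v (algebraMap k (v.adicCompletion k) (b i) - P i) ≤ exp (-(N : ℤ)) := fun i => by
    rw [show algebraMap k (v.adicCompletion k) (b i) - P i =
      algebraMap k (v.adicCompletion k) (b i - a i) + (algebraMap k (v.adicCompletion k) (a i) - P i) by rw [map_sub]; ring]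
    refine (Valuation.map_add _ _ _).trans (max_le ?_ (ha i))
    exact (HeightOneSpectrum.valuedAdicCompletion_eq_valuation' v _).trans_le (hb i)
  refine ⟨hsU fun i _ => hM i _ ((hbP i).trans (exp_le_exp.mpr (by have := hN i; omega))), fun i => ?_⟩
  exact lt_of_le_of_lt (hbP i) (exp_lt_exp.mpr (by omega) |>.trans_le (le_of_eq exp_zero))

/-- A rational approximation inside an open set, at an infinite place. -/
lemma exists_ball_inf (w : InfinitePlace k) {n : ℕ} (U : Set (Fin n → w.Completion)) (hU : IsOpen U)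
    (P : Fin n → w.Completion) (hP : P ∈ U) :
    ∃ (a : Fin n → k) (η : ℝ), 0 < η ∧
      ∀ b : Fin n → k, (∀ i, w (b i - a i) < η) → (fun i => algebraMap k w.Completion (b i)) ∈ U := by
  obtain ⟨η, hη, hsub⟩ := Metric.isOpen_iff.mp hU P hP
  choose a ha using fun i => Metric.denseRange_iff.mp (InfinitePlace.Completion.denseRange_coe w) (P i) (η / 2) (half_pos hη)
  refine ⟨fun i => WithAbs.equiv w.1 (a i), η / 2, half_pos hη, fun b hb => hsub ?_⟩
  rw [Metric.mem_ball, dist_pi_lt_iff hη]
  intro i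
  have h1 : dist (algebraMap k w.Completion (b i)) ((a i : WithAbs w.1) : w.Completion) = w (b i - WithAbs.equiv w.1 (a i)) := by
    have h2 : ((a i : WithAbs w.1) : w.Completion) = algebraMap k w.Completion (WithAbs.equiv w.1 (a i)) := rfl
    rw [dist_eq_norm, h2, ← map_sub]
    exact (InfinitePlace.Completion.norm_coe (v := w) ((WithAbs.equiv w.1).symm (b i - WithAbs.equiv w.1 (a i)))).trans (by rw [RingEquiv.apply_symm_apply])
  calc dist (algebraMap k w.Completion (b i)) (P i)
      ≤ dist (algebraMap k w.Completion (b i)) ((a i : WithAbs w.1) : w.Completion) + dist ((a i : WithAbs w.1) : w.Completion) (P i) :=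
        dist_triangle _ _ _
    _ < η / 2 + η / 2 := add_lt_add (h1 ▸ hb i) (by rw [dist_comm]; exact ha i)
    _ = η := add_halves η

lemma finite_ne_one (S : Finset (HeightOneSpectrum O)) {x : k} (hx : x ≠ 0) :
    {v : HeightOneSpectrum O | v ∉ S ∧ v.valuation k x ≠ 1}.Finite := by
  obtain ⟨a, b, hb, rfl⟩ := IsFractionRing.div_surjective (A := O) x
  have ha : a ≠ 0 := fun h => hx (by rw [h, map_zero, zero_div])
  refine ((finite_dvd (k := k) ha).union (finite_dvd (k := k) (nonZeroDivisors.ne_zero hb))).subset fun v hv => ?_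
  by_contra hn
  simp only [Set.mem_union, Set.mem_ofPred_eq, not_or, not_lt] at hn
  refine hv.2 ?_
  rw [map_div₀, HeightOneSpectrum.valuation_of_algebraMap, HeightOneSpectrum.valuation_of_algebraMap,
    le_antisymm (HeightOneSpectrum.intValuation_le_one v a) hn.1,
    le_antisymm (HeightOneSpectrum.intValuation_le_one v b) hn.2, div_one]

/-- The conclusion at one point and one place: an integral point off the closed subset. -/
def UnitAt {n m : ℕ} (f : Fin m → MvPolynomial (Fin n) O) (v : HeightOneSpectrum O) (P : Fin n → k) : Prop :=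
  (∀ i, v.valuation k (P i) ≤ 1) ∧ ∃ j, v.valuation k (MvPolynomial.eval₂ (algebraMap O k) P (f j)) = 1

lemma eval₂_completion {n : ℕ} (g : MvPolynomial (Fin n) O) (v : HeightOneSpectrum O) (P : Fin n → k) :
    Valued.v (MvPolynomial.eval₂ ((algebraMap k (v.adicCompletion k)).comp (algebraMap O k))
      (fun i => algebraMap k (v.adicCompletion k) (P i)) g) = v.valuation k (MvPolynomial.eval₂ (algebraMap O k) P g) := by
  rw [← HeightOneSpectrum.valuedAdicCompletion_eq_valuation']
  congr 1
  exact (MvPolynomial.eval₂_comp_left _ _ _ g).symm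

lemma unitAt_of_near {n m : ℕ} (f : Fin m → MvPolynomial (Fin n) O) (v : HeightOneSpectrum O)
    (R : Fin n → v.adicCompletion k) (hR : ∀ i, R i ∈ v.adicCompletionIntegers k)
    (hj : ∃ j, Valued.v (MvPolynomial.aeval R (MvPolynomial.map (algebraMap O k) (f j))) = 1)
    (P : Fin n → k) (hP : ∀ i, Valued.v (algebraMap k (v.adicCompletion k) (P i) - R i) < 1) : UnitAt f v P := by
  have hR' : ∀ i, Valued.v (R i) ≤ 1 := hR
  have hP1 : ∀ i, Valued.v (algebraMap k (v.adicCompletion k) (P i)) ≤ 1 := fun i => by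
    rw [show algebraMap k (v.adicCompletion k) (P i) = (algebraMap k (v.adicCompletion k) (P i) - R i) + R i by ring]
    exact (Valuation.map_add _ _ _).trans (max_le (hP i).le (hR' i))
  refine ⟨fun i => by rw [← HeightOneSpectrum.valuedAdicCompletion_eq_valuation']; exact hP1 i, ?_⟩
  obtain ⟨j, hj⟩ := hj
  refine ⟨j, ?_⟩
  rw [← eval₂_completion]
  rw [MvPolynomial.aeval_def, MvPolynomial.eval₂_map] at hj
  have hc : ∀ c : O, Valued.v (((algebraMap k (v.adicCompletion k)).comp (algebraMap O k)) c) ≤ 1 := fun c => by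
    rw [RingHom.comp_apply]
    exact (HeightOneSpectrum.valuedAdicCompletion_eq_valuation' v _).trans_le (HeightOneSpectrum.valuation_le_one v c)
  have := (eval₂_congr Valued.v _ hc (f j) _ R hP1 hP).2
  rw [show MvPolynomial.eval₂ ((algebraMap k (v.adicCompletion k)).comp (algebraMap O k))
      (fun i => algebraMap k (v.adicCompletion k) (P i)) (f j) =
    MvPolynomial.eval₂ ((algebraMap k (v.adicCompletion k)).comp (algebraMap O k)) R (f j) +
    (MvPolynomial.eval₂ ((algebraMap k (v.adicCompletion k)).comp (algebraMap O k))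
      (fun i => algebraMap k (v.adicCompletion k) (P i)) (f j) -
      MvPolynomial.eval₂ ((algebraMap k (v.adicCompletion k)).comp (algebraMap O k)) R (f j)) by ring]
  rw [Valuation.map_add_eq_of_lt_left _ (hj.symm ▸ this)]
  exact hj

/-- For most directions a line through a point off the subset misses it. -/
theorem exists_direction_poly {n m : ℕ} (g : Fin m → MvPolynomial (Fin n) k)
    (hdim : ringKrullDim (MvPolynomial (Fin n) k ⧸ Ideal.span (Set.range g)) + 2 ≤ (n : WithBot ℕ∞))
    (P : Fin n → k) (hP : ∃ j, MvPolynomial.eval P (g j) ≠ 0) :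
    ∃ Ψ : MvPolynomial (Fin n) k, Ψ ≠ 0 ∧ ∀ D : Fin n → k, MvPolynomial.eval D Ψ ≠ 0 →
      ∃ h : Fin m → Polynomial k,
        ∑ j, h j * MvPolynomial.aeval (fun i => Polynomial.C (P i) + Polynomial.C (D i) * Polynomial.X) (g j) = 1 := by
  classical
  set I := Ideal.span (Set.range g)
  let B := MvPolynomial (Fin n) k ⧸ I
  let φ : MvPolynomial (Fin n) k →ₐ[k] Polynomial B :=
    MvPolynomial.aeval fun i => Polynomial.X * Polynomial.C (Ideal.Quotient.mk I (MvPolynomial.X i - MvPolynomial.C (P i)))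
  haveI : Algebra.FiniteType k (Polynomial B) := Algebra.FiniteType.trans (S := B) inferInstance inferInstance
  have hdimB : ringKrullDim (Polynomial B) < n := by
    rw [Polynomial.ringKrullDim_of_isNoetherianRing]
    change ringKrullDim B + 2 ≤ _ at hdim
    induction hx : ringKrullDim B using WithBot.recBotCoe with
    | bot => rw [WithBot.bot_add]; exact WithBot.bot_lt_coe _
    | coe d =>
      rw [hx] at hdim
      have h2 : d + 2 ≤ (n : ℕ∞) := WithBot.coe_le_coe.mp hdim
      refine WithBot.coe_lt_coe.mpr (?_ : d + 1 < (n : ℕ∞))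
      induction d using ENat.recTopCoe with
      | top => simp at h2
      | coe d =>
        have h3 : d + 2 ≤ n := by exact_mod_cast h2
        exact_mod_cast (show d + 1 < n by omega)
  obtain ⟨Ψ, Ψ', hΨ⟩ := Function.not_injective_iff.mp (not_injective_of_dim_lt (B := Polynomial B) φ hdimB)
  refine ⟨Ψ - Ψ', sub_ne_zero.mpr hΨ.2, fun D hD => ?_⟩
  let L : Fin n → Polynomial k := fun i => Polynomial.C (P i) + Polynomial.C (D i) * Polynomial.X
  suffices Ideal.span (Set.range fun j => MvPolynomial.aeval L (g j)) = ⊤ by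
    have h1 := this.symm ▸ (Submodule.mem_top : (1 : Polynomial k) ∈ ⊤)
    exact Ideal.mem_span_range_iff_exists_fun.mp h1
  by_contra hne
  obtain ⟨M, hM, hle⟩ := Ideal.exists_le_maximal _ hne
  letI : Field (Polynomial k ⧸ M) := Ideal.Quotient.field M
  let K := Polynomial k ⧸ M
  let θ : MvPolynomial (Fin n) k →ₐ[k] K := (Ideal.Quotient.mkₐ k M).comp (MvPolynomial.aeval L)
  have hθ : I ≤ RingHom.ker θ := Ideal.span_le.mpr fun x hx => by
    obtain ⟨j, rfl⟩ := hx
    exact Ideal.Quotient.eq_zero_iff_mem.mpr (hle (Ideal.subset_span ⟨j, rfl⟩))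
  let θB : B →ₐ[k] K := Ideal.Quotient.liftₐ I θ fun a ha => hθ ha
  let t : K := Ideal.Quotient.mk M Polynomial.X
  have hθX : ∀ i, θ (MvPolynomial.X i) = algebraMap k K (P i) + algebraMap k K (D i) * t := fun i => by
    show Ideal.Quotient.mk M (MvPolynomial.aeval L (MvPolynomial.X i)) = _
    rw [MvPolynomial.aeval_X, map_add, map_mul]
    rfl
  have ht : t ≠ 0 := fun h0 => by
    obtain ⟨j, hj⟩ := hP
    refine hj ((map_eq_zero_iff _ (algebraMap k K).injective).mp ?_)
    have h1 : θ (g j) = algebraMap k K (MvPolynomial.eval P (g j)) := by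
      have : θ = (Algebra.ofId k K).comp (MvPolynomial.aeval P) := MvPolynomial.algHom_ext fun i => by
        rw [hθX, h0, mul_zero, add_zero]; simp [Algebra.ofId_apply]
      rw [this]; simp [MvPolynomial.aeval_eq_eval, Algebra.ofId_apply]
    rw [← h1]; exact hθ (Ideal.subset_span ⟨j, rfl⟩)
  let ev : Polynomial B →ₐ[k] K := Polynomial.eval₂AlgHom θB t⁻¹ (fun b => mul_comm _ _)
  have hev : ev.comp φ = (Algebra.ofId k K).comp (MvPolynomial.aeval D) := MvPolynomial.algHom_ext fun i => by
    simp only [AlgHom.comp_apply, φ, MvPolynomial.aeval_X, map_mul, Algebra.ofId_apply]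
    show Polynomial.eval₂ (θB : B →+* K) t⁻¹ Polynomial.X * Polynomial.eval₂ (θB : B →+* K) t⁻¹ (Polynomial.C _) = _
    rw [Polynomial.eval₂_X, Polynomial.eval₂_C]
    show t⁻¹ * θ (MvPolynomial.X i - MvPolynomial.C (P i)) = _
    rw [map_sub, hθX, show θ (MvPolynomial.C (P i)) = algebraMap k K (P i) from θ.commutes (P i), add_sub_cancel_left]
    rw [mul_left_comm, inv_mul_cancel₀ ht, mul_one]
  have := congrArg (fun f : MvPolynomial (Fin n) k →ₐ[k] K => f (Ψ - Ψ')) hev
  simp only [AlgHom.comp_apply, map_sub, hΨ.1, sub_self, MvPolynomial.aeval_eq_eval, Algebra.ofId_apply] at this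
  exact hD ((map_eq_zero_iff _ (algebraMap k K).injective).mp (by rw [map_sub, map_sub]; exact this.symm))

end Groth.Agent.NFApproxLib
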