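import Groth.Agent.NFApproxLib.Punctured

/-! Roots in completions, and places of degree one. -/

set_option autoImplicit false
universe u

namespace Groth.Agent.NFApproxLib

open NumberField IsDedekindDomain WithZero Polynomial

variable {k : Type u} [Field k] [NumberField k]

local notation "O" => NumberField.RingOfIntegers k

/-- Hensel's lemma in a completion, for a simple root modulo the maximal ideal. -/
theorem exists_root_completion (v : HeightOneSpectrum O) (g : (v.adicCompletionIntegers k)[X])
    (x₀ : v.adicCompletionIntegers k) (h0 : Valued.v ((g.eval x₀ : v.adicCompletionIntegers k) : v.adicCompletion k) < 1)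
    (h1 : Valued.v (((derivative g).eval x₀ : v.adicCompletionIntegers k) : v.adicCompletion k) = 1) :
    ∃ r : v.adicCompletionIntegers k, g.eval r = 0 := by
  classical
  have hexp : ∀ {z : WithZero (Multiplicative ℤ)}, z < 1 → z ≤ exp (-1) := fun {z} hz => by
    rcases eq_or_ne z 0 with rfl | hz0
    · exact zero_le
    · rw [← exp_log hz0] at hz ⊢
      rw [← exp_zero, exp_lt_exp] at hz
      exact exp_le_exp.mpr (by omega)
  have hle : ∀ z : v.adicCompletionIntegers k, Valued.v (z : v.adicCompletion k) ≤ 1 := fun z => z.2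
  let u : v.adicCompletion k := ((derivative g).eval x₀ : v.adicCompletionIntegers k)
  let u' : v.adicCompletionIntegers k := ⟨u⁻¹, by rw [HeightOneSpectrum.mem_adicCompletionIntegers, map_inv₀, h1, inv_one]⟩
  have hu : (derivative g).eval x₀ * u' = 1 := Subtype.ext (by
    show u * u⁻¹ = 1
    exact mul_inv_cancel₀ fun h => zero_ne_one ((map_zero Valued.v).symm.trans ((congrArg Valued.v h).symm.trans h1)))
  let x : ℕ → v.adicCompletionIntegers k := fun m => Nat.rec x₀ (fun _ y => y - g.eval y * u') m
  have hx : ∀ m, x (m + 1) = x m - g.eval (x m) * u' := fun m => rfl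
  have key : ∀ m, Valued.v ((g.eval (x m) : v.adicCompletionIntegers k) : v.adicCompletion k) ≤ exp (-((m : ℤ) + 1)) ∧
      Valued.v (((x m - x₀ : v.adicCompletionIntegers k)) : v.adicCompletion k) ≤ exp (-1 : ℤ) := by
    intro m
    induction m with
    | zero =>
      refine ⟨by simpa [x] using hexp h0, ?_⟩
      show Valued.v (((x₀ - x₀ : v.adicCompletionIntegers k)) : v.adicCompletion k) ≤ _
      rw [sub_self, ZeroMemClass.coe_zero, map_zero]; exact zero_le
    | succ m ih =>
      have hd : Valued.v (((g.eval (x m) * u' : v.adicCompletionIntegers k)) : v.adicCompletion k) ≤ exp (-((m : ℤ) + 1)) := by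
        rw [MulMemClass.coe_mul, map_mul]; exact mul_le_of_le_of_le_one ih.1 (hle u')
      refine ⟨?_, ?_⟩
      · obtain ⟨z, hz⟩ := g.binomExpansion (x m) (-(g.eval (x m) * u'))
        obtain ⟨t, ht⟩ := (derivative g).evalSubFactor (x m) x₀
        have : g.eval (x (m + 1)) = g.eval (x m) * ((1 - u' * (derivative g).eval x₀) - u' * (t * (x m - x₀))) +
            z * (g.eval (x m) * u') ^ 2 := by
          rw [hx, sub_eq_add_neg, hz, ← ht]; ring
        rw [this, show u' * (derivative g).eval x₀ = 1 by rw [mul_comm, hu], sub_self, zero_sub]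
        rw [AddMemClass.coe_add, MulMemClass.coe_mul, MulMemClass.coe_mul]
        refine (Valuation.map_add _ _ _).trans (max_le ?_ ?_)
        · rw [map_mul, NegMemClass.coe_neg, Valuation.map_neg, MulMemClass.coe_mul, MulMemClass.coe_mul, map_mul, map_mul]
          calc _ ≤ exp (-((m : ℤ) + 1)) * (1 * (1 * exp (-1 : ℤ))) := mul_le_mul' ih.1 (mul_le_mul' (hle u') (mul_le_mul' (hle t) ih.2))
            _ = _ := by rw [one_mul, one_mul, ← exp_add]; congr 1
        · rw [map_mul, sq, MulMemClass.coe_mul, map_mul, MulMemClass.coe_mul]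
          calc _ ≤ 1 * (exp (-((m : ℤ) + 1)) * exp (-((m : ℤ) + 1))) :=
                mul_le_mul' (hle z) (mul_le_mul' (by rw [← MulMemClass.coe_mul]; exact hd) (by rw [← MulMemClass.coe_mul]; exact hd))
            _ ≤ _ := by rw [one_mul, ← exp_add]; exact exp_le_exp.mpr (by push_cast; omega)
      · rw [hx, show x m - g.eval (x m) * u' - x₀ = (x m - x₀) - g.eval (x m) * u' by ring, AddSubgroupClass.coe_sub]
        exact (Valuation.map_sub _ _ _).trans (max_le ih.2 (hd.trans (exp_le_exp.mpr (by omega))))
  have hstep : ∀ a b, a ≤ b → Valued.v ((x b).1 - (x a).1) ≤ exp (-((a : ℤ) + 1)) := by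
    intro a b hab
    induction b, hab using Nat.le_induction with
    | base => rw [sub_self, map_zero]; exact zero_le
    | succ b hab ih =>
      rw [show (x (b + 1)).1 - (x a).1 = ((x b).1 - (x a).1) - ((g.eval (x b) * u' : v.adicCompletionIntegers k) : v.adicCompletion k) by
          rw [hx, AddSubgroupClass.coe_sub]; ring]
      refine (Valuation.map_sub _ _ _).trans (max_le ih ?_)
      rw [MulMemClass.coe_mul, map_mul]
      exact (mul_le_of_le_of_le_one (key b).1 (hle u')).trans (exp_le_exp.mpr (by omega))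
  have hcs : Cauchy (Filter.atTop.map fun m => (x m).1) := by
    refine Valued.cauchy_iff.mpr ⟨Filter.map_neBot, fun γ => ?_⟩
    obtain ⟨c, hc⟩ : ∃ c : ℤ, exp c = MonoidWithZeroHom.ValueGroup₀.embedding γ.1 := ⟨_, exp_log (by simpa using γ.ne_zero)⟩
    refine ⟨(fun m => (x m).1) '' Set.Ici (1 - c).toNat,
      Filter.image_mem_map (Filter.Ici_mem_atTop _), ?_⟩
    rintro _ ⟨a, ha, rfl⟩ _ ⟨b, hb, rfl⟩
    rw [Set.mem_Ici] at ha hb
    rw [Valuation.restrict_lt_iff_lt_embedding, ← hc]
    rcases le_total a b with hab | hab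
    · exact lt_of_le_of_lt (hstep a b hab) (exp_lt_exp.mpr (by omega))
    · rw [Valuation.map_sub_swap]; exact lt_of_le_of_lt (hstep b a hab) (exp_lt_exp.mpr (by omega))
  obtain ⟨r, hr⟩ := CompleteSpace.complete hcs
  have hlim : ∀ e : ℕ, ∃ m, e ≤ m ∧ Valued.v ((x m).1 - r) ≤ exp (-(e : ℤ)) := by
    intro e
    obtain ⟨y, hy⟩ := HeightOneSpectrum.valuedAdicCompletion_surjective k v (exp (-(e : ℤ)))
    have hy0 : Valued.v.restrict y ≠ 0 := fun h0 => by
      have := congrArg MonoidWithZeroHom.ValueGroup₀.embedding h0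
      rw [Valuation.embedding_restrict, map_zero, hy] at this
      exact exp_ne_zero this
    have hn : {z | Valued.v.restrict (z - r) < (Units.mk0 _ hy0).1} ∈ nhds r := Valued.mem_nhds.mpr ⟨_, subset_rfl⟩
    obtain ⟨N, hN⟩ := Filter.mem_atTop_sets.mp (Filter.mem_map.mp (hr hn))
    refine ⟨max N e, le_max_right _ _, ?_⟩
    have h := hN _ (le_max_left N e)
    rw [Set.mem_preimage, Set.mem_ofPred_eq, Units.val_mk0, Valuation.restrict_lt_iff] at h
    exact h.le.trans hy.le
  have hr1 : Valued.v r ≤ 1 := by
    obtain ⟨m, -, hm⟩ := hlim 0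
    rw [show r = (x m).1 - ((x m).1 - r) by ring]
    exact (Valuation.map_sub _ _ _).trans (max_le (hle _) (by simpa using hm))
  let r' : v.adicCompletionIntegers k := ⟨r, hr1⟩
  refine ⟨r', Subtype.ext ?_⟩
  have hz : ∀ e : ℕ, Valued.v ((g.eval r' : v.adicCompletionIntegers k) : v.adicCompletion k) ≤ exp (-(e : ℤ)) := by
    intro e
    obtain ⟨m, hme, hm⟩ := hlim e
    obtain ⟨t, ht⟩ := g.evalSubFactor (x m) r'
    rw [show g.eval r' = g.eval (x m) - t * (x m - r') by rw [← ht]; ring, AddSubgroupClass.coe_sub]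
    refine (Valuation.map_sub _ _ _).trans (max_le ((key m).1.trans (exp_le_exp.mpr (by omega))) ?_)
    rw [MulMemClass.coe_mul, map_mul, AddSubgroupClass.coe_sub]
    exact (mul_le_mul' (hle t) hm).trans (one_mul _).le
  rw [ZeroMemClass.coe_zero]
  by_contra hne
  have h := hz ((-(log (Valued.v ((g.eval r' : v.adicCompletionIntegers k) : v.adicCompletion k)))).toNat + 1)
  rw [← exp_log ((Valuation.ne_zero_iff Valued.v).mpr hne), exp_le_exp, log_exp] at h
  omega

lemma exists_integral_lift (v : HeightOneSpectrum O) (g : k[X]) (hg : ∀ e, v.valuation k (g.coeff e) ≤ 1) :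
    ∃ G : (v.adicCompletionIntegers k)[X], G.map (v.adicCompletionIntegers k).subtype = g.map (algebraMap k (v.adicCompletion k)) := by
  have : g.map (algebraMap k (v.adicCompletion k)) ∈ lifts (v.adicCompletionIntegers k).subtype := by
    rw [lifts_iff_coeff_lifts]
    intro e
    rw [coeff_map]
    refine ⟨⟨algebraMap k (v.adicCompletion k) (g.coeff e), ?_⟩, rfl⟩
    exact (HeightOneSpectrum.valuedAdicCompletion_eq_valuation' v _).trans_le (hg e)
  exact (mem_lifts _).mp this

lemma valuation_eval_le (v : HeightOneSpectrum O) (g : k[X]) (hg : ∀ e, v.valuation k (g.coeff e) ≤ 1) {c : k}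
    (hc : v.valuation k c ≤ 1) : v.valuation k (g.eval c) ≤ 1 := by
  rw [eval_eq_sum, Polynomial.sum_def]
  refine Valuation.map_sum_le _ fun e _ => ?_
  rw [map_mul, map_pow]
  exact mul_le_one' (hg e) (pow_le_one' hc e)

/-- A root modulo a good prime gives a place of degree one. -/
theorem embed_of_root_mod {L : Type u} [Field L] [Algebra k L] [FiniteDimensional k L] (θ : L)
    (hθ : IntermediateField.adjoin k {θ} = ⊤) (v : HeightOneSpectrum O)
    (hint : ∀ e, v.valuation k ((minpoly k θ).coeff e) ≤ 1) (a b : k[X])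
    (hab : a * minpoly k θ + b * derivative (minpoly k θ) = 1)
    (ha : ∀ e, v.valuation k (a.coeff e) ≤ 1) (hb : ∀ e, v.valuation k (b.coeff e) ≤ 1)
    (c : k) (hc : v.valuation k c ≤ 1) (hroot : v.valuation k ((minpoly k θ).eval c) < 1) :
    Nonempty (L →ₐ[k] v.adicCompletion k) := by
  classical
  set g := minpoly k θ
  have hgd : v.valuation k ((derivative g).eval c) = 1 := by
    have h := congrArg (eval c) hab
    rw [eval_add, eval_mul, eval_mul, eval_one] at h
    have hg' : ∀ e, v.valuation k ((derivative g).coeff e) ≤ 1 := fun e => by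
      rw [coeff_derivative, map_mul]
      refine mul_le_one' (hint _) ?_
      rw [show ((e : k) + 1) = algebraMap O k ((e : O) + 1) by simp]
      exact HeightOneSpectrum.valuation_le_one v _
    refine le_antisymm (valuation_eval_le v _ hg' hc) (not_lt.mp fun hlt => ?_)
    have h2 : v.valuation k (a.eval c * g.eval c + b.eval c * (derivative g).eval c) < 1 := by
      refine Valuation.map_add_lt _ ?_ ?_ <;> rw [map_mul]
      · exact mul_lt_one_of_nonneg_of_lt_one_right (valuation_eval_le v a ha hc) zero_le hroot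
      · exact mul_lt_one_of_nonneg_of_lt_one_right (valuation_eval_le v b hb hc) zero_le hlt
    rw [h, map_one] at h2
    exact lt_irrefl _ h2
  obtain ⟨G, hG⟩ := exists_integral_lift v g hint
  let c' : v.adicCompletionIntegers k :=
    ⟨algebraMap k (v.adicCompletion k) c, (HeightOneSpectrum.valuedAdicCompletion_eq_valuation' v c).trans_le hc⟩
  have hev : ∀ (P : (v.adicCompletionIntegers k)[X]) (y : v.adicCompletionIntegers k),
      ((P.eval y : v.adicCompletionIntegers k) : v.adicCompletion k) = (P.map (v.adicCompletionIntegers k).subtype).eval (y : v.adicCompletion k) :=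
    fun P y => (eval₂_at_apply (v.adicCompletionIntegers k).subtype y).symm.trans (eval_map _ _).symm
  obtain ⟨r, hr⟩ := exists_root_completion v G c' (by
    rw [hev, hG]
    show Valued.v ((g.map (algebraMap k (v.adicCompletion k))).eval (algebraMap k (v.adicCompletion k) c)) < 1
    rw [eval_map, eval₂_at_apply]
    exact (HeightOneSpectrum.valuedAdicCompletion_eq_valuation' v _).trans_lt hroot) (by
    rw [hev, ← derivative_map, hG, derivative_map]
    show Valued.v (((derivative g).map (algebraMap k (v.adicCompletion k))).eval (algebraMap k (v.adicCompletion k) c)) = 1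
    rw [eval_map, eval₂_at_apply]
    exact (HeightOneSpectrum.valuedAdicCompletion_eq_valuation' v _).trans hgd)
  have hr' : (r : v.adicCompletion k) ∈ g.aroots (v.adicCompletion k) := by
    rw [mem_aroots']
    refine ⟨(Polynomial.map_ne_zero_iff (algebraMap k (v.adicCompletion k)).injective).mpr (minpoly.ne_zero (IsIntegral.of_finite k θ)), ?_⟩
    rw [aeval_def, ← eval_map, ← hG, ← hev, hr]
    rfl
  let e := (IntermediateField.equivOfEq hθ).trans IntermediateField.topEquiv
  exact ⟨((IntermediateField.algHomAdjoinIntegralEquiv k (K := v.adicCompletion k) (IsIntegral.of_finite k θ)).symm ⟨_, hr'⟩).comp e.symm.toAlgHom⟩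

/-- An element of large absolute value at all infinite places has a prime divisor. -/
theorem exists_prime_divisor (x : k) (hx : ∀ v : HeightOneSpectrum O, v.valuation k x = 1) :
    ∏ w : InfinitePlace k, w x ^ InfinitePlace.mult w = 1 := by
  have hx0 : x ≠ 0 := by
    rintro rfl
    obtain ⟨P, hP⟩ := Ideal.exists_maximal O
    have := hx ⟨P, hP.isPrime, fun h => RingOfIntegers.not_isField k (Ring.isField_iff_maximal_bot.mpr (h ▸ hP))⟩
    simp at this
  obtain ⟨a, ha⟩ := HeightOneSpectrum.mem_integers_of_valuation_le_one k x fun v => (hx v).le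
  obtain ⟨b, hb⟩ := HeightOneSpectrum.mem_integers_of_valuation_le_one k x⁻¹ fun v => by rw [map_inv₀, hx v, inv_one]
  have hu : IsUnit a := by
    refine IsUnit.of_mul_eq_one b (IsFractionRing.injective O k ?_)
    rw [map_mul, ha, hb, map_one, mul_inv_cancel₀ hx0]
  rw [InfinitePlace.prod_eq_abs_norm]
  have := NumberField.isUnit_iff_norm.mp hu
  rw [RingOfIntegers.coe_norm] at this
  rw [← ha]
  exact_mod_cast this

/-- There is a place of degree one outside any finite set. -/
theorem exists_degree_one (L : Type u) [Field L] [Algebra k L] [FiniteDimensional k L] [Algebra.IsSeparable k L]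
    (S : Finset (HeightOneSpectrum O)) :
    ∃ v : HeightOneSpectrum O, v ∉ S ∧ Nonempty (L →ₐ[k] v.adicCompletion k) := by
  classical
  obtain ⟨θ, hθ, hθ0⟩ : ∃ θ : L, IntermediateField.adjoin k {θ} = ⊤ ∧ θ ≠ 0 := by
    obtain ⟨θ, hθ⟩ := Field.exists_primitive_element k L
    by_cases h : θ = 0
    · subst h
      refine ⟨1, ?_, one_ne_zero⟩
      rw [← hθ, IntermediateField.adjoin_zero, IntermediateField.adjoin_one]
    · exact ⟨θ, hθ, h⟩
  set g := minpoly k θ
  have hint := IsIntegral.of_finite k θ
  obtain ⟨a, b, hab⟩ := (separable_def' _).mp (Algebra.IsSeparable.isSeparable k θ : g.Separable)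
  have hg0 : g.coeff 0 ≠ 0 := minpoly.coeff_zero_ne_zero hint hθ0
  let Bad : Set (HeightOneSpectrum O) := ⋃ P ∈ ({g, a, b} : Finset k[X]), ⋃ e ∈ P.support,
    {v : HeightOneSpectrum O | v ∉ S ∧ v.valuation k (P.coeff e) ≠ 1}
  have hBad : Bad.Finite := Set.Finite.biUnion (Finset.finite_toSet _) fun P _ =>
    P.support.finite_toSet.biUnion fun e he => finite_ne_one S (mem_support_iff.mp he)
  let B := S ∪ hBad.toFinset ∪ (finite_ne_one (∅ : Finset (HeightOneSpectrum O)) hg0).toFinset
  have hgood : ∀ v ∉ B, ∀ P ∈ ({g, a, b} : Finset k[X]), ∀ e, v.valuation k (P.coeff e) ≤ 1 := fun v hv P hP e => by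
    by_cases he : P.coeff e = 0
    · rw [he, map_zero]; exact zero_le
    · refine le_of_eq (by_contra fun hne => hv (Finset.mem_union_left _ (Finset.mem_union_right _ ?_)))
      rw [Set.Finite.mem_toFinset]
      exact Set.mem_biUnion hP (Set.mem_biUnion (mem_support_iff.mpr he) ⟨fun h => hv (Finset.mem_union_left _ (Finset.mem_union_left _ h)), hne⟩)
  by_contra hcon
  push Not at hcon
  let M₀ : ℕ := ∏ v ∈ B, Ideal.absNorm v.asIdeal
  have hM₀ : ∀ v ∈ B, v.valuation k (M₀ : k) ≤ exp (-1 : ℤ) := fun v hv => by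
    rw [show (M₀ : k) = algebraMap O k (M₀ : O) by simp]
    exact valuation_le_exp_of_mem (k := k) (n := 1) v (by
      rw [pow_one]
      exact Ideal.mem_of_dvd _ (by exact_mod_cast Nat.cast_dvd_cast (α := O) (Finset.dvd_prod_of_mem (fun v : HeightOneSpectrum O => Ideal.absNorm v.asIdeal) hv))
        (Ideal.absNorm_mem v.asIdeal))
  let bound : HeightOneSpectrum O → ℕ := fun v =>
    (g.support.sup fun e => (log (v.valuation k (g.coeff e))).toNat) + (-(log (v.valuation k (g.coeff 0)))).toNat + 1
  let M : ℕ := M₀ ^ (B.sup bound)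
  have hM : 0 < M := pow_pos (Finset.prod_pos fun v _ => Nat.pos_of_ne_zero fun h => v.ne_bot (Ideal.absNorm_eq_zero_iff.mp h)) _
  have hval : ∀ (j : ℕ) (v : HeightOneSpectrum O), v.valuation k (g.eval ((M * j : ℕ) : k)) = v.valuation k (g.coeff 0) := by
    intro j v
    have hc : v.valuation k ((M * j : ℕ) : k) ≤ 1 := by
      rw [show ((M * j : ℕ) : k) = algebraMap O k ((M * j : ℕ) : O) by simp]
      exact HeightOneSpectrum.valuation_le_one v _
    by_cases hv : v ∈ B
    · rw [eval_eq_sum, Polynomial.sum_def]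
      have hsplit : ∑ e ∈ g.support, g.coeff e * ((M * j : ℕ) : k) ^ e =
          g.coeff 0 + ∑ e ∈ g.support.erase 0, g.coeff e * ((M * j : ℕ) : k) ^ e := by
        rw [← Finset.add_sum_erase _ _ (mem_support_iff.mpr hg0), pow_zero, mul_one]
      rw [hsplit]
      refine Valuation.map_add_eq_of_lt_left _ (Valuation.map_sum_lt _ ((Valuation.ne_zero_iff _).mpr hg0) fun e he => ?_)
      rw [Finset.mem_erase, mem_support_iff] at he
      have h1 : v.valuation k ((M * j : ℕ) : k) ≤ exp (-(bound v : ℤ)) := by
        rw [Nat.cast_mul, map_mul, show (M : k) = (M₀ : k) ^ (B.sup bound) by simp [M], map_pow]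
        refine le_trans (mul_le_of_le_of_le_one le_rfl ?_) (le_trans (pow_le_pow_left' (hM₀ v hv) _) ?_)
        · rw [show (j : k) = algebraMap O k (j : O) by simp]; exact HeightOneSpectrum.valuation_le_one v _
        · rw [← exp_nsmul]
          refine exp_le_exp.mpr ?_
          have := Finset.le_sup (f := bound) hv
          simp; omega
      rw [map_mul, map_pow]
      have h2 : v.valuation k ((M * j : ℕ) : k) ^ e ≤ exp (-(bound v : ℤ)) :=
        (pow_le_of_le_one zero_le hc he.1).trans h1
      refine lt_of_le_of_lt (mul_le_mul' le_rfl h2) ?_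
      rw [← exp_log ((Valuation.ne_zero_iff (v.valuation k)).mpr he.2), ← exp_log ((Valuation.ne_zero_iff (v.valuation k)).mpr hg0),
        ← exp_add, exp_lt_exp]
      have := Finset.le_sup (f := fun e => (log (v.valuation k (g.coeff e))).toNat) (mem_support_iff.mpr he.2)
      simp only [bound] at this ⊢
      push_cast
      omega
    · have h0 : v.valuation k (g.coeff 0) = 1 := by_contra fun hne => hv (Finset.mem_union_right _
        ((Set.Finite.mem_toFinset _).mpr ⟨Finset.notMem_empty v, hne⟩))
      rw [h0]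
      refine le_antisymm (valuation_eval_le v g (hgood v hv g (by simp)) hc) (not_lt.mp fun hlt => ?_)
      obtain ⟨φ⟩ := embed_of_root_mod θ hθ v (hgood v hv g (by simp)) a b hab (hgood v hv a (by simp))
        (hgood v hv b (by simp)) _ hc hlt
      exact (hcon v fun h => hv (Finset.mem_union_left _ (Finset.mem_union_left _ h))).false φ
  have hone : ∀ j : ℕ, ∏ w : InfinitePlace k, w (g.eval ((M * j : ℕ) : k) / g.coeff 0) ^ InfinitePlace.mult w = 1 := fun j =>
    exists_prime_divisor _ fun v => by rw [map_div₀, hval, div_self ((Valuation.ne_zero_iff _).mpr hg0)]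
  have hbig : ∀ w : InfinitePlace k, ∀ᶠ j : ℕ in Filter.atTop, 2 * w (g.coeff 0) ≤ w (g.eval ((M * j : ℕ) : k)) := by
    intro w
    have ht : Filter.Tendsto (fun j : ℕ => ‖((M * j : ℕ) : ℂ)‖) Filter.atTop Filter.atTop := by
      simp only [Complex.norm_natCast]
      exact tendsto_natCast_atTop_atTop.comp (Filter.tendsto_atTop_atTop.mpr fun b => ⟨b, fun j hj => le_trans hj (Nat.le_mul_of_pos_left j hM)⟩)
    have := (g.map w.embedding).tendsto_norm_atTop (by rw [degree_map]; exact minpoly.degree_pos hint) ht
    filter_upwards [this.eventually_ge_atTop (2 * w (g.coeff 0))] with j hj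
    refine hj.trans (le_of_eq ?_)
    rw [← w.norm_embedding_eq, eval_map, ← map_natCast w.embedding, eval₂_at_apply]
  obtain ⟨j, hj⟩ := (Filter.eventually_all.mpr hbig).exists
  have h := hone j
  have : (1 : ℝ) < ∏ w : InfinitePlace k, w (g.eval ((M * j : ℕ) : k) / g.coeff 0) ^ InfinitePlace.mult w := by
    have h2 : ∀ w : InfinitePlace k, 1 < w (g.eval ((M * j : ℕ) : k) / g.coeff 0) := fun w => by
      rw [map_div₀, lt_div_iff₀ (InfinitePlace.pos_iff.mpr hg0), one_mul]
      have := hj w
      have : 0 < w (g.coeff 0) := InfinitePlace.pos_iff.mpr hg0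
      linarith
    rw [← Finset.prod_const_one (s := (Finset.univ : Finset (InfinitePlace k)))]
    exact Finset.prod_lt_prod_of_nonempty (fun w _ => one_pos) (fun w _ => one_lt_pow₀ (h2 w) (InfinitePlace.mult_pos).ne') Finset.univ_nonempty
  linarith

end Groth.Agent.NFApproxLib
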