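import Mathlib

/-! Strong approximation for the affine line over a number field, away from one finite place. -/

set_option autoImplicit false
universe u

namespace Groth.Agent.NFApproxLib

open NumberField IsDedekindDomain WithZero

variable {k : Type u} [Field k]

local notation "O" => NumberField.RingOfIntegers k

variable [NumberField k]

lemma exists_intValuation_eq (v : HeightOneSpectrum O) {x : O} (hx : x ≠ 0) :
    ∃ n : ℕ, v.intValuation x = exp (-(n : ℤ)) :=
  ⟨_, HeightOneSpectrum.intValuation_if_neg v hx⟩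

lemma finite_dvd {x : O} (hx : x ≠ 0) : {v : HeightOneSpectrum O | v.intValuation x < 1}.Finite := by
  refine (Ideal.finite_factors (I := Ideal.span {x}) (by simpa using hx)).subset fun v hv => ?_
  exact (HeightOneSpectrum.intValuation_lt_one_iff_dvd v x).mp hv

lemma valuation_le_exp_of_mem (v : HeightOneSpectrum O) {x : O} {n : ℕ} (h : x ∈ v.asIdeal ^ n) :
    v.valuation k (algebraMap O k x) ≤ exp (-(n : ℤ)) := by
  rw [HeightOneSpectrum.valuation_of_algebraMap]
  exact (HeightOneSpectrum.intValuation_le_pow_iff_mem v x n).mpr h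

/-- The non-Archimedean part. -/
theorem crt (S : Finset (HeightOneSpectrum O)) (a : HeightOneSpectrum O → k) (N : HeightOneSpectrum O → ℕ) :
    ∃ y : k, (∀ v ∈ S, v.valuation k (y - a v) ≤ exp (-(N v : ℤ))) ∧ ∀ v ∉ S, v.valuation k y ≤ 1 := by
  classical
  obtain ⟨⟨d, hd⟩, hint⟩ := IsLocalization.exist_integer_multiples (nonZeroDivisors O) S a
  have hd0 : d ≠ 0 := nonZeroDivisors.ne_zero hd
  choose e he using fun v : HeightOneSpectrum O => exists_intValuation_eq v hd0
  let T := S ∪ (finite_dvd hd0).toFinset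
  let x : HeightOneSpectrum O → O := fun v => if h : v ∈ S then (hint v h).choose else 0
  obtain ⟨Y, hY⟩ := IsDedekindDomain.exists_forall_sub_mem_ideal (s := T) (fun v => v.asIdeal)
    (fun v => if v ∈ S then N v + e v else e v) (fun v _ => v.prime)
    (fun v _ w _ hvw h => hvw (HeightOneSpectrum.ext h)) (fun v => x v.1)
  have hdk : algebraMap O k d ≠ 0 := (map_ne_zero_iff _ (IsFractionRing.injective O k)).mpr hd0
  have hvd : ∀ v : HeightOneSpectrum O, v.valuation k (algebraMap O k d) = exp (-(e v : ℤ)) := fun v => by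
    rw [HeightOneSpectrum.valuation_of_algebraMap, he]
  refine ⟨algebraMap O k Y / algebraMap O k d, fun v hv => ?_, fun v hv => ?_⟩
  · have h1 := valuation_le_exp_of_mem (k := k) v (hY v (Finset.mem_union_left _ hv))
    simp only [if_pos hv, x, dif_pos hv, map_sub] at h1
    rw [show algebraMap O k (hint v hv).choose = algebraMap O k d * a v from
      (hint v hv).choose_spec.trans (Algebra.smul_def _ _)] at h1
    rw [show algebraMap O k Y / algebraMap O k d - a v =
      (algebraMap O k Y - algebraMap O k d * a v) / algebraMap O k d by field_simp, map_div₀, hvd,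
      div_le_iff₀ exp_pos, ← exp_add]
    exact h1.trans (le_of_eq (by congr 1; push_cast; ring))
  · rw [map_div₀, hvd, div_le_iff₀ exp_pos, one_mul]
    by_cases hT : v ∈ T
    · have h1 := valuation_le_exp_of_mem (k := k) v (hY v hT)
      simp only [if_neg hv, x, dif_neg hv, sub_zero] at h1
      exact h1
    · have : ¬ v.intValuation d < 1 := fun h => hT (Finset.mem_union_right _ ((Set.Finite.mem_toFinset _).mpr h))
      rw [HeightOneSpectrum.valuation_of_algebraMap, ← he, le_antisymm (HeightOneSpectrum.intValuation_le_one v d) (not_lt.mp this)]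
      exact HeightOneSpectrum.intValuation_le_one v Y

/-- An element supported at one place only. -/
theorem exists_supported (v₀ : HeightOneSpectrum O) :
    ∃ π : O, π ≠ 0 ∧ (∀ v, v ≠ v₀ → v.intValuation π = 1) ∧ 1 < (Ideal.absNorm (Ideal.span {π}) : ℝ) := by
  classical
  let I : nonZeroDivisors (Ideal O) := ⟨v₀.asIdeal, mem_nonZeroDivisors_of_ne_zero v₀.ne_bot⟩
  let h := Fintype.card (ClassGroup O)
  have h1 : ClassGroup.mk0 (I ^ h) = 1 := by rw [map_pow, pow_card_eq_one]
  obtain ⟨π, hπ⟩ := ((ClassGroup.mk0_eq_one_iff (I ^ h).2).mp h1).1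
  have hspan : v₀.asIdeal ^ h = Ideal.span {π} := hπ
  have hπ0 : π ≠ 0 := fun h0 => by
    rw [h0, Ideal.span_singleton_zero] at hspan
    exact v₀.ne_bot (eq_zero_of_pow_eq_zero hspan)
  refine ⟨π, hπ0, fun v hv => ?_, ?_⟩
  · refine le_antisymm (HeightOneSpectrum.intValuation_le_one v π) (not_lt.mp fun hlt => hv ?_)
    rw [HeightOneSpectrum.intValuation_lt_one_iff_dvd, ← hspan] at hlt
    have := v.prime.dvd_of_dvd_pow hlt
    exact HeightOneSpectrum.ext ((v₀.isMaximal.eq_of_le v.isPrime.ne_top (Ideal.le_of_dvd this)).symm)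
  · have h2 : Ideal.absNorm (Ideal.span {π}) ≠ 1 := fun h' => by
      rw [Ideal.absNorm_eq_one_iff, ← hspan] at h'
      have hpos : h ≠ 0 := Fintype.card_ne_zero
      exact v₀.isPrime.ne_top (top_le_iff.mp (h'.symm.le.trans (Ideal.pow_le_self hpos)))
    have h3 : Ideal.absNorm (Ideal.span {π}) ≠ 0 := by simpa [Ideal.absNorm_eq_zero_iff] using hπ0
    exact_mod_cast (show 1 < Ideal.absNorm (Ideal.span {π}) by omega)

open NumberField.mixedEmbedding MeasureTheory in
/-- Elements small at all infinite places and integral away from `v₀`. -/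
theorem exists_small (v₀ : HeightOneSpectrum O) {δ : ℝ} (hδ : 0 < δ) :
    ∃ x : k, x ≠ 0 ∧ (∀ v, v ≠ v₀ → v.valuation k x ≤ 1) ∧ ∀ w : InfinitePlace k, w x < δ := by
  classical
  obtain ⟨π, hπ0, hπ, hnorm⟩ := exists_supported v₀
  set p : k := algebraMap O k π with hp
  have hp0 : p ≠ 0 := (map_ne_zero_iff _ (IsFractionRing.injective O k)).mpr hπ0
  let D := ∑ w : InfinitePlace k, InfinitePlace.mult w
  have hprod : ∏ w : InfinitePlace k, w p ^ InfinitePlace.mult w = (Ideal.absNorm (Ideal.span {π}) : ℝ) := by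
    rw [InfinitePlace.prod_eq_abs_norm, Ideal.absNorm_span_singleton, hp, ← Algebra.coe_norm_int, Nat.cast_natAbs]
    norm_cast
  obtain ⟨N, hN⟩ := pow_unbounded_of_one_lt
    ((minkowskiBound k ↑1).toReal / ((convexBodyLTFactor k : ℝ) * δ ^ D)) hnorm
  let f : InfinitePlace k → NNReal := fun w => ⟨δ * w p ^ N, mul_nonneg hδ.le (pow_nonneg (apply_nonneg w p) N)⟩
  have hvol : minkowskiBound k ↑1 < volume (convexBodyLT k f) := by
    rw [convexBodyLT_volume, ← ENNReal.ofReal_toReal (minkowskiBound_lt_top k ↑1).ne]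
    have hc : (0 : ℝ) < (convexBodyLTFactor k : ℝ) * δ ^ D :=
      mul_pos (NNReal.coe_pos.mpr (pos_iff_ne_zero.mpr (convexBodyLTFactor_ne_zero k))) (pow_pos hδ D)
    rw [div_lt_iff₀ hc] at hN
    have h1 : ((∏ w, f w ^ InfinitePlace.mult w : NNReal) : ℝ) = δ ^ D * (Ideal.absNorm (Ideal.span {π}) : ℝ) ^ N := by
      rw [NNReal.coe_prod, ← hprod, ← Finset.prod_pow, ← Finset.prod_pow_eq_pow_sum, ← Finset.prod_mul_distrib]
      refine Finset.prod_congr rfl fun w _ => ?_
      rw [NNReal.coe_pow]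
      show (δ * w p ^ N) ^ _ = _
      rw [mul_pow, ← pow_mul, ← pow_mul, mul_comm N]
    have h2 : (minkowskiBound k ↑1).toReal < ((convexBodyLTFactor k * ∏ w, f w ^ InfinitePlace.mult w : NNReal) : ℝ) := by
      rw [NNReal.coe_mul, h1]
      calc _ < _ := hN
        _ = _ := by ring
    have := (ENNReal.ofReal_lt_ofReal_iff (lt_of_le_of_lt ENNReal.toReal_nonneg h2)).mpr h2
    rw [ENNReal.ofReal_coe_nnreal] at this
    simpa using this
  obtain ⟨a, ha, hb⟩ := exists_ne_zero_mem_ringOfIntegers_lt k hvol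
  refine ⟨algebraMap O k a / p ^ N, div_ne_zero ((map_ne_zero_iff _ (IsFractionRing.injective O k)).mpr ha) (pow_ne_zero N hp0),
    fun v hv => ?_, fun w => ?_⟩
  · rw [map_div₀, map_pow, hp, HeightOneSpectrum.valuation_of_algebraMap, HeightOneSpectrum.valuation_of_algebraMap,
      hπ v hv, one_pow, div_one]
    exact HeightOneSpectrum.intValuation_le_one v a
  · rw [map_div₀, map_pow, div_lt_iff₀ (pow_pos (InfinitePlace.pos_iff.mpr hp0) N)]
    exact hb w

/-- The ring of integers is relatively dense at the infinite places. -/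
theorem exists_covering : ∃ C : ℝ, 0 ≤ C ∧ ∀ q : k, ∃ o : O, ∀ w : InfinitePlace k, w (q - algebraMap O k o) ≤ C := by
  classical
  let b := NumberField.integralBasis k
  let B := fun i => NumberField.RingOfIntegers.basis k i
  refine ⟨∑ w : InfinitePlace k, ∑ i, w (b i), Finset.sum_nonneg fun w _ => Finset.sum_nonneg fun i _ => apply_nonneg w _, fun q => ?_⟩
  refine ⟨∑ i, ⌊b.repr q i⌋ • B i, fun w => ?_⟩
  have hb : ∀ i, algebraMap O k (B i) = b i := fun i => (NumberField.integralBasis_apply k i).symm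
  have : q - algebraMap O k (∑ i, ⌊b.repr q i⌋ • B i) = ∑ i, ((b.repr q i - ⌊b.repr q i⌋ : ℚ) : k) * b i := by
    conv_lhs => arg 1; rw [← b.sum_repr q]
    rw [map_sum, ← Finset.sum_sub_distrib]
    refine Finset.sum_congr rfl fun i _ => ?_
    rw [map_zsmul, hb, Algebra.smul_def, zsmul_eq_mul, eq_ratCast, Rat.cast_sub, Rat.cast_intCast, sub_mul]
  rw [this]
  refine le_trans ?_ (Finset.single_le_sum (f := fun w : InfinitePlace k => ∑ i, w (b i))
    (fun w _ => Finset.sum_nonneg fun i _ => apply_nonneg w _) (Finset.mem_univ w))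
  refine (AbsoluteValue.sum_le w.1 _ _).trans (Finset.sum_le_sum fun i _ => ?_)
  show w (((b.repr q i - ⌊b.repr q i⌋ : ℚ) : k) * b i) ≤ w (b i)
  rw [map_mul]
  refine mul_le_of_le_one_left (apply_nonneg w _) ?_
  rw [← w.norm_embedding_eq, map_ratCast, Complex.norm_ratCast]
  have h1 := Int.floor_le (b.repr q i)
  have h2 := Int.lt_floor_add_one (b.repr q i)
  rw [abs_of_nonneg (by exact_mod_cast sub_nonneg.mpr h1)]
  exact_mod_cast (by linarith : b.repr q i - ⌊b.repr q i⌋ ≤ 1)

/-- Simultaneous approximation at the infinite places. -/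
theorem exists_near (r : InfinitePlace k → k) {η : ℝ} (hη : 0 < η) : ∃ q : k, ∀ w : InfinitePlace k, w (q - r w) < η := by
  have h := (InfinitePlace.denseRange_algebraMap_pi (K := k))
    (fun w : InfinitePlace k => (WithAbs.equiv w.1).symm (r w))
  rw [Metric.mem_closure_range_iff] at h
  obtain ⟨q, hq⟩ := h η hη
  refine ⟨q, fun w => lt_of_le_of_lt (le_of_eq ?_) (lt_of_le_of_lt (dist_le_pi_dist _ _ w) hq)⟩
  rw [dist_comm, dist_eq_norm, WithAbs.norm_eq_apply_ofAbs]
  rfl

/-- Strong approximation away from `v₀`. -/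
theorem strong_approx (v₀ : HeightOneSpectrum O) (S : Finset (HeightOneSpectrum O)) (hv₀ : v₀ ∉ S)
    (a : HeightOneSpectrum O → k) (N : HeightOneSpectrum O → ℕ) (q : InfinitePlace k → k) {ε : ℝ} (hε : 0 < ε) :
    ∃ t : k, (∀ v ∈ S, v.valuation k (t - a v) ≤ exp (-(N v : ℤ))) ∧ (∀ v, v ≠ v₀ → v ∉ S → v.valuation k t ≤ 1) ∧
      ∀ w : InfinitePlace k, w (t - q w) < ε := by
  classical
  obtain ⟨y, hy, hy'⟩ := crt S a N
  choose u hu hu0 using fun v : HeightOneSpectrum O => Submodule.exists_mem_ne_zero_of_ne_bot v.ne_bot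
  set m : k := algebraMap O k (∏ v ∈ S, u v ^ N v) with hm
  have hm0 : m ≠ 0 := (map_ne_zero_iff _ (IsFractionRing.injective O k)).mpr
    (Finset.prod_ne_zero_iff.mpr fun v _ => pow_ne_zero _ (hu0 v))
  have hmv : ∀ v ∈ S, v.valuation k m ≤ exp (-(N v : ℤ)) := fun v hv =>
    valuation_le_exp_of_mem v (Ideal.mem_of_dvd _ (Finset.dvd_prod_of_mem _ hv) (Ideal.pow_mem_pow (hu v) _))
  obtain ⟨C, hC, hcov⟩ := exists_covering (k := k)
  let M := ∑ w : InfinitePlace k, w m
  have hM : ∀ w : InfinitePlace k, w m ≤ M := fun w =>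
    Finset.single_le_sum (f := fun w : InfinitePlace k => w m) (fun w _ => apply_nonneg w _) (Finset.mem_univ w)
  have hM0 : (0 : ℝ) ≤ M := Finset.sum_nonneg fun w _ => apply_nonneg w _
  have hη : 0 < ε / ((M + 1) * (C + 2)) := by positivity
  obtain ⟨Q, hQ⟩ := exists_near (fun w => (q w - y) / m) hη
  obtain ⟨x, hx0, hxv, hxw⟩ := exists_small v₀ hη
  obtain ⟨o, ho⟩ := hcov (Q / x)
  have hzv : ∀ v, v ≠ v₀ → v.valuation k (algebraMap O k o * x) ≤ 1 := fun v hv => by
    rw [map_mul]; exact mul_le_one' (HeightOneSpectrum.valuation_le_one v o) (hxv v hv)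
  refine ⟨y + m * (algebraMap O k o * x), fun v hv => ?_, fun v hv hvS => ?_, fun w => ?_⟩
  · rw [show y + m * (algebraMap O k o * x) - a v = (y - a v) + m * (algebraMap O k o * x) by ring]
    refine (Valuation.map_add _ _ _).trans (max_le (hy v hv) ?_)
    rw [map_mul]
    exact mul_le_of_le_of_le_one (hmv v hv) (hzv v (fun h => hv₀ (h ▸ hv)))
  · refine (Valuation.map_add _ _ _).trans (max_le (hy' v hvS) ?_)
    rw [map_mul]
    exact mul_le_one' (HeightOneSpectrum.valuation_le_one v _) (hzv v hv)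
  · rw [show y + m * (algebraMap O k o * x) - q w =
      m * ((Q - (q w - y) / m) - (Q / x - algebraMap O k o) * x) by field_simp; ring, map_mul]
    have h1 : w ((Q - (q w - y) / m) - (Q / x - algebraMap O k o) * x) ≤
        ε / ((M + 1) * (C + 2)) + C * (ε / ((M + 1) * (C + 2))) := by
      have h0 := w.1.sub_le (Q - (q w - y) / m) 0 ((Q / x - algebraMap O k o) * x)
      rw [sub_zero, zero_sub, AbsoluteValue.map_neg] at h0
      refine h0.trans (add_le_add (hQ w).le ?_)
      show w ((Q / x - algebraMap O k o) * x) ≤ _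
      rw [map_mul]
      exact mul_le_mul (ho w) (hxw w).le (apply_nonneg w _) hC
    calc w m * _ ≤ M * (ε / ((M + 1) * (C + 2)) + C * (ε / ((M + 1) * (C + 2)))) :=
          mul_le_mul (hM w) h1 (apply_nonneg w _) hM0
      _ < ε := by
        rw [show M * (ε / ((M + 1) * (C + 2)) + C * (ε / ((M + 1) * (C + 2)))) = ε * ((M * (1 + C)) / ((M + 1) * (C + 2))) by field_simp]
        refine mul_lt_of_lt_one_right hε ?_
        rw [div_lt_one (by positivity)]
        nlinarith

end Groth.Agent.NFApproxLib
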